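import Mathlib

/-!
# A quadratic-action lemma

`quadratic_trivial`: let a group `Γ` act (via `φ : Γ →* MulAut W`) on a commutative group `W`,
let `Y ≤ Γ` be a finite subgroup whose image is commutative and whose order is invertible on `W`,
and let `a ∈ Γ` normalize `Y`, act quadratically on `W` (`(a - 1)^2 = 0`) and be "of odd order
on `Y`" (every commutator `[z, a]` acts as a commutator `[w, a^2]`).  Then all commutators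
`[y, a]`, `y ∈ Y`, act trivially on `W`.

This is the elementary substitute for `p`-stability used for Thompson's normal `p`-complement
theorem: a `p`-element acting quadratically on an abelian `p`-group cannot act nontrivially on
an abelian `p'`-group of operators.
-/

set_option autoImplicit false

namespace Cfsg.Agent.Lib.Helper67.Quadratic

open scoped IsMulCommutative

theorem mul_mul_inv_four {M : Type*} [Group M] {p q r s : M} (hqr : q * r = r * q)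
    (hrs : r * s = s * r) : (p * q) * (r * s)⁻¹ = (p * r⁻¹) * (q * s⁻¹) := by
  have h1 : (r * s)⁻¹ = r⁻¹ * s⁻¹ := by rw [hrs, mul_inv_rev]
  have h2 : q * r⁻¹ = r⁻¹ * q := (Commute.inv_right (show Commute q r from hqr)).eq
  calc (p * q) * (r * s)⁻¹ = p * (q * r⁻¹) * s⁻¹ := by rw [h1]; group
    _ = (p * r⁻¹) * (q * s⁻¹) := by rw [h2]; group

/-- the map `y ↦ φ [y, b]` is multiplicative on `Y` when `φ Y` is commutative. -/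
theorem twist_mul {W : Type*} [Group W] {Γ : Type*} [Group Γ] (φ : Γ →* MulAut W)
    (Y : Subgroup Γ) (b : Γ) (hbY : ∀ y ∈ Y, b * y * b⁻¹ ∈ Y)
    (hYc : ∀ y ∈ Y, ∀ z ∈ Y, φ y * φ z = φ z * φ y) {z y : Γ} (hz : z ∈ Y) (hy : y ∈ Y) :
    φ (z * y * b * (z * y)⁻¹ * b⁻¹) = φ (z * b * z⁻¹ * b⁻¹) * φ (y * b * y⁻¹ * b⁻¹) := by
  obtain ⟨r, hr⟩ : ∃ r, r = b * z * b⁻¹ := ⟨_, rfl⟩
  obtain ⟨s, hs⟩ : ∃ s, s = b * y * b⁻¹ := ⟨_, rfl⟩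
  have hrY : r ∈ Y := hr ▸ hbY z hz
  have hsY : s ∈ Y := hs ▸ hbY y hy
  have e1 : z * y * b * (z * y)⁻¹ * b⁻¹ = (z * y) * (r * s)⁻¹ := by rw [hr, hs]; group
  have e2 : z * b * z⁻¹ * b⁻¹ = z * r⁻¹ := by rw [hr]; group
  have e3 : y * b * y⁻¹ * b⁻¹ = y * s⁻¹ := by rw [hs]; group
  rw [e1, e2, e3]
  simp only [map_mul, map_inv]
  exact mul_mul_inv_four (hYc y hy r hrY) (hYc r hrY s hsY)

/-- the twisted norm `∏_y φ [y, b] x` is fixed by every `φ [z, b]`. -/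
theorem twist_norm_fixed {W : Type*} [Group W] [IsMulCommutative W] {Γ : Type*} [Group Γ]
    (φ : Γ →* MulAut W) (Y : Subgroup Γ) [Fintype Y] (b : Γ) (hbY : ∀ y ∈ Y, b * y * b⁻¹ ∈ Y)
    (hYc : ∀ y ∈ Y, ∀ z ∈ Y, φ y * φ z = φ z * φ y) (z : Γ) (hz : z ∈ Y) (x : W) :
    φ (z * b * z⁻¹ * b⁻¹) (∏ y : Y, φ ((y : Γ) * b * (y : Γ)⁻¹ * b⁻¹) x) =
      ∏ y : Y, φ ((y : Γ) * b * (y : Γ)⁻¹ * b⁻¹) x := by
  rw [map_prod]
  have h1 : ∀ y : Y, φ (z * b * z⁻¹ * b⁻¹) (φ ((y : Γ) * b * (y : Γ)⁻¹ * b⁻¹) x) =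
      φ ((((⟨z, hz⟩ : Y) * y : Y) : Γ) * b * ((((⟨z, hz⟩ : Y) * y : Y) : Γ))⁻¹ * b⁻¹) x := by
    intro y
    rw [Subgroup.coe_mul, twist_mul φ Y b hbY hYc hz y.2]
    rfl
  rw [Finset.prod_congr rfl (fun y _ => h1 y)]
  exact Fintype.prod_equiv (Equiv.mulLeft (⟨z, hz⟩ : Y)) _ _ (fun y => rfl)

/-- **Quadratic lemma.** -/
theorem quadratic_trivial {W : Type*} [Group W] [IsMulCommutative W]
    {Γ : Type*} [Group Γ] (φ : Γ →* MulAut W) (Y : Subgroup Γ) [Finite Y] (a : Γ)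
    (haY : ∀ y ∈ Y, a * y * a⁻¹ ∈ Y)
    (hYc : ∀ y ∈ Y, ∀ z ∈ Y, φ y * φ z = φ z * φ y)
    (hquad : ∀ w : W, φ a (φ a w) * w = φ a w * φ a w)
    (hodd : ∀ z ∈ Y, ∃ w ∈ Y, φ (z * a * z⁻¹ * a⁻¹) = φ (w * a ^ 2 * w⁻¹ * (a ^ 2)⁻¹))
    (htors : ∀ w : W, w ^ Nat.card Y = 1 → w = 1) :
    ∀ y ∈ Y, ∀ w : W, φ (y * a * y⁻¹ * a⁻¹) w = w := by
  classical
  have : Fintype Y := Fintype.ofFinite Y
  have ha2Y : ∀ y ∈ Y, a ^ 2 * y * (a ^ 2)⁻¹ ∈ Y := by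
    intro y hy
    have h1 := haY _ (haY y hy)
    have e : a ^ 2 * y * (a ^ 2)⁻¹ = a * (a * y * a⁻¹) * a⁻¹ := by rw [pow_two]; group
    rw [e]; exact h1
  -- the pointwise identity
  have key : ∀ y : Γ, ∀ u : W,
      φ (y * a ^ 2 * y⁻¹ * (a ^ 2)⁻¹) (φ a u) * (φ a)⁻¹ u =
        φ (y * a * y⁻¹ * a⁻¹) u * φ (y * a * y⁻¹ * a⁻¹) u := by
    intro y u
    have hq := hquad ((φ y)⁻¹ ((φ a)⁻¹ u))
    have hq' := congrArg (φ y) hq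
    rw [map_mul, map_mul] at hq'
    have E1 : φ (y * a * y⁻¹ * a⁻¹) u = φ y (φ a ((φ y)⁻¹ ((φ a)⁻¹ u))) := by
      rw [map_mul, map_mul, map_mul, map_inv, map_inv]; rfl
    have E2 : φ y ((φ y)⁻¹ ((φ a)⁻¹ u)) = (φ a)⁻¹ u := MulAut.apply_inv_self W _ _
    have E3 : φ (y * a ^ 2 * y⁻¹ * (a ^ 2)⁻¹) (φ a u) =
        φ y (φ a (φ a ((φ y)⁻¹ ((φ a)⁻¹ u)))) := by
      rw [map_mul, map_mul, map_mul, map_inv, map_inv, map_pow, pow_two]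
      simp only [MulAut.mul_apply, mul_inv_rev, MulAut.inv_apply_self]
    rw [E2] at hq'
    rw [E1, E3]
    exact hq'
  intro y₀ hy₀ w₀
  -- the two twisted norms
  obtain ⟨Nc, hNc⟩ : ∃ Nc : W → W, Nc = fun x => ∏ y : Y, φ ((y : Γ) * a * (y : Γ)⁻¹ * a⁻¹) x :=
    ⟨_, rfl⟩
  obtain ⟨Nd, hNd⟩ : ∃ Nd : W → W,
      Nd = fun x => ∏ y : Y, φ ((y : Γ) * a ^ 2 * (y : Γ)⁻¹ * (a ^ 2)⁻¹) x := ⟨_, rfl⟩
  have hNc_fix : ∀ z ∈ Y, ∀ x, φ (z * a * z⁻¹ * a⁻¹) (Nc x) = Nc x := by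
    intro z hz x
    rw [hNc]
    exact twist_norm_fixed φ Y a haY hYc z hz x
  have hNd_fix : ∀ z ∈ Y, ∀ x, φ (z * a * z⁻¹ * a⁻¹) (Nd x) = Nd x := by
    intro z hz x
    obtain ⟨w, hw, hzw⟩ := hodd z hz
    rw [hzw, hNd]
    exact twist_norm_fixed φ Y (a ^ 2) ha2Y hYc w hw x
  -- the product identity
  have hprod : ∀ u : W, Nd (φ a u) * ((φ a)⁻¹ u) ^ Nat.card Y = Nc u * Nc u := by
    intro u
    rw [hNc, hNd]
    show (∏ y : Y, φ ((y : Γ) * a ^ 2 * (y : Γ)⁻¹ * (a ^ 2)⁻¹) (φ a u)) *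
        ((φ a)⁻¹ u) ^ Nat.card Y =
      (∏ y : Y, φ ((y : Γ) * a * (y : Γ)⁻¹ * a⁻¹) u) *
        (∏ y : Y, φ ((y : Γ) * a * (y : Γ)⁻¹ * a⁻¹) u)
    rw [← Finset.prod_mul_distrib, Nat.card_eq_fintype_card, ← Finset.card_univ,
      ← Finset.prod_const, ← Finset.prod_mul_distrib]
    exact Finset.prod_congr rfl (fun y _ => key (y : Γ) u)
  -- apply with `u = φ a w₀`
  have h1 := hprod (φ a w₀)
  rw [MulAut.inv_apply_self] at h1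
  obtain ⟨γ, hγ⟩ : ∃ γ : MulAut W, γ = φ (y₀ * a * y₀⁻¹ * a⁻¹) := ⟨_, rfl⟩
  have hγd : ∀ x, γ (Nd x) = Nd x := fun x => by rw [hγ]; exact hNd_fix y₀ hy₀ x
  have hγc : ∀ x, γ (Nc x) = Nc x := fun x => by rw [hγ]; exact hNc_fix y₀ hy₀ x
  have h2 := congrArg γ h1
  rw [map_mul, map_mul, map_pow, hγd, hγc, ← h1] at h2
  have h3 : (γ w₀) ^ Nat.card Y = w₀ ^ Nat.card Y := mul_left_cancel h2
  have h4 : (γ w₀ * w₀⁻¹) ^ Nat.card Y = 1 := by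
    rw [mul_pow, h3, inv_pow, mul_inv_cancel]
  rw [← hγ]
  exact mul_inv_eq_one.mp (htors _ h4)

end Cfsg.Agent.Lib.Helper67.Quadratic
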