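import Cfsg.Agent.Lib.Helper16.BRStmt
import Cfsg.Agent.Lib.CT.ClassMult
import Cfsg.Agent.Lib.Helper80.Integrality

/-!
# Brauer–Reynolds, piece [PJ1]: the case `δ = -1`, `a = 0`

Every non-trivial element of `C_G(y)` is conjugate to the involution `y`: the class
multiplication constant of the class of `y` with itself, computed from the table.
-/

set_option autoImplicit false

namespace Cfsg.Agent.Lib.Helper67.BRPJ1

open Cfsg Cfsg.Agent.Lib.CT.ThirdMain Cfsg.Agent.Lib.Helper16.BRSpec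
open scoped ComplexConjugate

universe u

/-- Partition of a sum over all irreducible characters. -/
theorem sum_partition {G : Type u} [Group G] [Finite G] [Fintype (IrrCharacter G)]
    (A B Y : Set (IrrCharacter G)) (htA : triv G ∉ A) (htB : triv G ∉ B) (htY : triv G ∉ Y)
    (hAB : Disjoint A B) (hAY : Disjoint A Y) (hBY : Disjoint B Y) (F : IrrCharacter G → ℂ) :
    ∑ χ : IrrCharacter G, F χ = F (triv G) + ∑ᶠ χ ∈ A, F χ + ∑ᶠ χ ∈ B, F χ + ∑ᶠ χ ∈ Y, F χ +
      ∑ᶠ χ ∈ Zset A B Y, F χ := by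
  classical
  have huniv : (Set.univ : Set (IrrCharacter G)) =
      ((({triv G} ∪ A) ∪ B) ∪ Y) ∪ Zset A B Y := by
    ext χ
    simp only [Set.mem_univ, Set.mem_union, Set.mem_singleton_iff, Zset, Set.mem_ofPred_eq,
      true_iff]
    tauto
  have d1 : Disjoint ((({triv G} ∪ A) ∪ B) ∪ Y) (Zset A B Y) := by
    rw [Set.disjoint_left]
    intro χ h1 h2
    simp only [Set.mem_union, Set.mem_singleton_iff, Zset, Set.mem_ofPred_eq] at h1 h2
    tauto
  have d2 : Disjoint (({triv G} ∪ A) ∪ B) Y := by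
    rw [Set.disjoint_left]
    intro χ h1 h2
    simp only [Set.mem_union, Set.mem_singleton_iff] at h1
    rcases h1 with (h | h) | h
    · rw [h] at h2; exact htY h2
    · exact Set.disjoint_left.mp hAY h h2
    · exact Set.disjoint_left.mp hBY h h2
  have d3 : Disjoint ({triv G} ∪ A) B := by
    rw [Set.disjoint_left]
    intro χ h1 h2
    simp only [Set.mem_union, Set.mem_singleton_iff] at h1
    rcases h1 with h | h
    · rw [h] at h2; exact htB h2
    · exact Set.disjoint_left.mp hAB h h2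
  have d4 : Disjoint ({triv G} : Set (IrrCharacter G)) A := by
    rw [Set.disjoint_left]
    intro χ h1 h2
    simp only [Set.mem_singleton_iff] at h1
    rw [h1] at h2; exact htA h2
  rw [← finsum_eq_sum_of_fintype, ← finsum_mem_univ, huniv,
    finsum_mem_union d1 (Set.toFinite _) (Set.toFinite _),
    finsum_mem_union d2 (Set.toFinite _) (Set.toFinite _),
    finsum_mem_union d3 (Set.toFinite _) (Set.toFinite _),
    finsum_mem_union d4 (Set.toFinite _) (Set.toFinite _), finsum_mem_singleton]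

theorem conj_sq {G : Type*} [Group G] (g y : G) (hyy : y * y = 1) :
    g * y * g⁻¹ * (g * y * g⁻¹) = 1 := by
  have h : g * y * g⁻¹ * (g * y * g⁻¹) = g * (y * y) * g⁻¹ := by group
  rw [h, hyy]; group

theorem comm_of_invol {G : Type*} [Group G] (u u' y : G) (huu : u * u = 1) (hu' : u' * u' = 1)
    (hyy : y * y = 1) (h : u * u' = y) : u * y = y * u := by
  subst h
  have h1 : u * (u * u') = u' := by rw [← mul_assoc, huu, one_mul]
  have h3 : u * u' * u * u' = 1 := by rw [mul_assoc (u * u') u u']; exact hyy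
  have h2 : u * u' * u = u' :=
    (eq_inv_of_mul_eq_one_left h3).trans (inv_eq_of_mul_eq_one_left hu')
  rw [h1, h2]

theorem main : Cfsg.Agent.Lib.Helper16.BRStmt.CaseDInvol.{u} := by
  intro G _ _ p _ P e t n a b f A B Y hT y ω mult hR hM hC ha ht3 c hc hc1
  classical
  have := Fintype.ofFinite G
  have := Cfsg.Agent.Lib.CT.Wedderburn.finite_irrCharacter G
  have := Fintype.ofFinite (IrrCharacter G)
  have hp : p.Prime := Fact.out
  rcases hT.hcase with ⟨h1, _⟩ | ⟨_, hfe, hb, he⟩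
  · exfalso; omega
  subst ha
  have he2 : e = 2 := by simpa using he
  subst he2
  have hpt : p = 2 * t + 1 := hT.hpe
  have hn : n + 1 = t := hT.hn
  have hω : ω = -1 := hR.hω.eq_neg_one_of_two_right
  have hyo : orderOf y = 2 := hR.hyo
  have hy1 : y ≠ 1 := by
    intro h; rw [h, orderOf_one] at hyo; omega
  have hyy : y * y = 1 := by
    have h := pow_orderOf_eq_one y
    rw [hyo, pow_two] at h; exact h
  have hcy : Nat.card (Subgroup.centralizer ({y} : Set G)) = 2 * t := by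
    have h := hC.cw
    simpa using h
  have hval : ∀ χ : IrrCharacter G, (χ : G → ℂ) y = (mult χ 0 : ℂ) - (mult χ 1 : ℂ) := by
    intro χ
    have h := hR.r3 χ 1 (by norm_num) (by norm_num)
    rw [pow_one] at h
    rw [h, Finset.sum_range_succ, Finset.sum_range_one, hω]
    simp
    ring
  have hA0 : A = ∅ := (Set.ncard_eq_zero (Set.toFinite A)).mp hT.cA
  have hpart : ∑ χ : IrrCharacter G,
      (χ : G → ℂ) y * (χ : G → ℂ) y * conj ((χ : G → ℂ) y) / (χ : G → ℂ) 1 =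
      ((triv G : IrrCharacter G) : G → ℂ) y * ((triv G : IrrCharacter G) : G → ℂ) y *
        conj (((triv G : IrrCharacter G) : G → ℂ) y) / ((triv G : IrrCharacter G) : G → ℂ) 1 +
      ∑ᶠ χ ∈ A, (χ : G → ℂ) y * (χ : G → ℂ) y * conj ((χ : G → ℂ) y) / (χ : G → ℂ) 1 +
      ∑ᶠ χ ∈ B, (χ : G → ℂ) y * (χ : G → ℂ) y * conj ((χ : G → ℂ) y) / (χ : G → ℂ) 1 +
      ∑ᶠ χ ∈ Y, (χ : G → ℂ) y * (χ : G → ℂ) y * conj ((χ : G → ℂ) y) / (χ : G → ℂ) 1 +
      ∑ᶠ χ ∈ Zset A B Y,
        (χ : G → ℂ) y * (χ : G → ℂ) y * conj ((χ : G → ℂ) y) / (χ : G → ℂ) 1 :=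
    sum_partition A B Y hT.htA hT.htB hT.htY hT.hAB hT.hAY hT.hBY
      (fun χ => (χ : G → ℂ) y * (χ : G → ℂ) y * conj ((χ : G → ℂ) y) / (χ : G → ℂ) 1)
  have hFt : ((triv G : IrrCharacter G) : G → ℂ) y * ((triv G : IrrCharacter G) : G → ℂ) y *
        conj (((triv G : IrrCharacter G) : G → ℂ) y) / ((triv G : IrrCharacter G) : G → ℂ) 1
        = 1 := by
    simp [coe_triv]
  have hFA : ∑ᶠ χ ∈ A,
      (χ : G → ℂ) y * (χ : G → ℂ) y * conj ((χ : G → ℂ) y) / (χ : G → ℂ) 1 = 0 := by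
    rw [hA0]; exact finsum_mem_empty
  have hFB : ∑ᶠ χ ∈ B,
      (χ : G → ℂ) y * (χ : G → ℂ) y * conj ((χ : G → ℂ) y) / (χ : G → ℂ) 1 = 0 := by
    apply finsum_mem_eq_zero_of_forall_eq_zero
    intro χ hχ
    have h0 := hM.mB χ hχ 0 (by norm_num)
    have h1 := hM.mB χ hχ 1 (by norm_num)
    rw [hval χ, h0, h1]; simp
  have hFY : ∑ᶠ θ ∈ Y,
      (θ : G → ℂ) y * (θ : G → ℂ) y * conj ((θ : G → ℂ) y) / (θ : G → ℂ) 1 =
        -(t : ℂ) / (f : ℂ) := by
    have hcst : ∀ θ ∈ Y,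
        (θ : G → ℂ) y * (θ : G → ℂ) y * conj ((θ : G → ℂ) y) / (θ : G → ℂ) 1 =
          -1 / (f : ℂ) := by
      intro θ hθ
      have h0 := hM.mY θ hθ 0 (by norm_num)
      have h1 := hM.mY θ hθ 1 (by norm_num)
      norm_num at h0 h1
      rw [hval θ, h0, h1, hT.hY1 θ hθ]; simp
    rw [finsum_mem_congr rfl hcst, finsum_mem_eq_finite_toFinset_sum _ (Set.toFinite Y),
      Finset.sum_const, ← Set.ncard_eq_toFinset_card Y (Set.toFinite Y), hT.cY]
    simp
    ring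
  have hp0 : (p : ℂ) ≠ 0 := Nat.cast_ne_zero.mpr hp.ne_zero
  have hFZ : ∑ᶠ χ ∈ Zset A B Y,
      (χ : G → ℂ) y * (χ : G → ℂ) y * conj ((χ : G → ℂ) y) / (χ : G → ℂ) 1 =
        (n : ℂ) / (p : ℂ) := by
    have hcst : ∀ χ ∈ Zset A B Y,
        (χ : G → ℂ) y * (χ : G → ℂ) y * conj ((χ : G → ℂ) y) / (χ : G → ℂ) 1 =
          (1 / (p : ℂ)) * ((mdeg p χ ^ 2 : ℕ) : ℂ) := by
      intro χ hχ
      obtain ⟨hd, hm⟩ := hM.mZ χ hχ
      have h0 := hm 0 (by norm_num)
      have h1 := hm 1 (by norm_num)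
      norm_num at h0 h1
      rw [hval χ, h0, h1, hd]
      by_cases hm0 : mdeg p χ = 0
      · simp [hm0]
      · have hm0' : (mdeg p χ : ℂ) ≠ 0 := Nat.cast_ne_zero.mpr hm0
        push_cast
        simp only [sub_zero, map_natCast]
        field_simp
    rw [finsum_mem_congr rfl hcst, ← mul_finsum_mem]
    have hcast : ∑ᶠ χ ∈ Zset A B Y, ((mdeg p χ ^ 2 : ℕ) : ℂ) =
        ((∑ᶠ χ ∈ Zset A B Y, mdeg p χ ^ 2 : ℕ) : ℂ) :=
      (AddMonoidHom.map_finsum_mem (fun χ : IrrCharacter G => mdeg p χ ^ 2)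
        (Nat.castAddMonoidHom ℂ) (Set.toFinite _)).symm
    rw [hcast, hM.mZs]; ring
  obtain ⟨S, hS⟩ : ∃ S : Finset (G × G), S = Finset.univ.filter
      fun q : G × G => q.1 * y * q.1⁻¹ * (q.2 * y * q.2⁻¹) = y := ⟨_, rfl⟩
  have hcount : (S.card : ℂ) = (Nat.card G : ℂ) * ∑ χ : IrrCharacter G,
      (χ : G → ℂ) y * (χ : G → ℂ) y * conj ((χ : G → ℂ) y) / (χ : G → ℂ) 1 := by
    rw [hS]
    exact Cfsg.Agent.Lib.CT.ClassMult.conj_pair_count y y y
  rw [hpart, hFt, hFA, hFB, hFY, hFZ, hT.hG] at hcount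
  have hfC : (f : ℂ) = 2 * (n : ℂ) + 1 := by
    have h : f = 2 * n + 1 := by omega
    rw [h]; push_cast; ring
  have hpC : (p : ℂ) = 2 * (n : ℂ) + 3 := by
    have h : p = 2 * n + 3 := by omega
    rw [h]; push_cast; ring
  have htC : (t : ℂ) = (n : ℂ) + 1 := by
    rw [← hn]; push_cast; ring
  have hf0 : (2 * (n : ℂ) + 1) ≠ 0 := by
    rw [← hfC]; exact Nat.cast_ne_zero.mpr (by omega)
  have hp0' : (2 * (n : ℂ) + 3) ≠ 0 := by
    rw [← hpC]; exact hp0
  have hcard : (S.card : ℂ) = ((8 * t ^ 2 * n : ℕ) : ℂ) := by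
    rw [hcount]; push_cast; rw [hfC, hpC, htC]
    have hu : (2 * (n : ℂ) + 1) * (2 * (n : ℂ) + 1)⁻¹ = 1 := mul_inv_cancel₀ hf0
    have hv : (2 * (n : ℂ) + 3) * (2 * (n : ℂ) + 3)⁻¹ = 1 := mul_inv_cancel₀ hp0'
    linear_combination (-(2 * ((n : ℂ) + 1) * ((n : ℂ) + 1) * (2 * (n : ℂ) + 3))) * hu +
      (2 * ((n : ℂ) + 1) * (n : ℂ) * (2 * (n : ℂ) + 1)) * hv
  have hcardN : S.card = 8 * t ^ 2 * n := by exact_mod_cast hcard
  obtain ⟨Cf, hCfdef⟩ : ∃ Cf : Finset G, Cf = Finset.univ.filter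
      fun u : G => u ∈ Subgroup.centralizer ({y} : Set G) := ⟨_, rfl⟩
  obtain ⟨U, hU⟩ : ∃ U : Finset G, U = Finset.univ.filter
      fun u : G => u ∈ Subgroup.centralizer ({y} : Set G) ∧ u ≠ 1 ∧ u ≠ y ∧ IsConj y u :=
    ⟨_, rfl⟩
  have hmap : ∀ q ∈ S, q.1 * y * q.1⁻¹ ∈ U := by
    intro q hq
    rw [hS, Finset.mem_filter] at hq
    have hq2 := hq.2
    have huu := conj_sq q.1 y hyy
    have hu'u' := conj_sq q.2 y hyy
    rw [hU, Finset.mem_filter]
    refine ⟨Finset.mem_univ _, ?_, ?_, ?_, isConj_iff.mpr ⟨q.1, rfl⟩⟩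
    · rw [Subgroup.mem_centralizer_singleton_iff]
      exact comm_of_invol _ _ y huu hu'u' hyy hq2
    · intro h
      exact hy1 (conj_eq_one_iff.mp h)
    · intro h
      rw [h] at hq2
      have h2 : q.2 * y * q.2⁻¹ = 1 := mul_left_cancel (hq2.trans (mul_one y).symm)
      exact hy1 (conj_eq_one_iff.mp h2)
  have hfib : ∀ u ∈ U, (S.filter fun q : G × G => q.1 * y * q.1⁻¹ = u).card ≤
      (2 * t) * (2 * t) := by
    intro u _
    have hsub : (S.filter fun q : G × G => q.1 * y * q.1⁻¹ = u) ⊆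
        (Finset.univ.filter fun h : G => h * y * h⁻¹ = u) ×ˢ
          (Finset.univ.filter fun h : G => h * y * h⁻¹ = u⁻¹ * y) := by
      intro q hq
      rw [Finset.mem_filter, hS, Finset.mem_filter] at hq
      obtain ⟨⟨_, hq1⟩, hq2⟩ := hq
      rw [Finset.mem_product, Finset.mem_filter, Finset.mem_filter]
      refine ⟨⟨Finset.mem_univ _, hq2⟩, Finset.mem_univ _, ?_⟩
      rw [hq2] at hq1
      exact eq_inv_mul_iff_mul_eq.mpr hq1
    refine (Finset.card_le_card hsub).trans ?_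
    rw [Finset.card_product]
    have hb : ∀ v : G, (Finset.univ.filter fun h : G => h * y * h⁻¹ = v).card ≤ 2 * t := by
      intro v
      have h := Cfsg.Agent.Lib.Helper80.Integrality.card_filter_conj_eq y v
      refine h.le.trans ?_
      split_ifs
      · exact hcy.le
      · exact Nat.zero_le _
    exact Nat.mul_le_mul (hb _) (hb _)
  have hsum : S.card = ∑ u ∈ U, (S.filter fun q : G × G => q.1 * y * q.1⁻¹ = u).card :=
    Finset.card_eq_sum_card_fiberwise hmap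
  have hle : 8 * t ^ 2 * n ≤ U.card * (2 * t * (2 * t)) := by
    rw [← hcardN, hsum]
    calc ∑ u ∈ U, (S.filter fun q : G × G => q.1 * y * q.1⁻¹ = u).card
        ≤ ∑ u ∈ U, (2 * t * (2 * t)) := Finset.sum_le_sum hfib
      _ = U.card * (2 * t * (2 * t)) := by rw [Finset.sum_const, smul_eq_mul]
  have hU2 : 2 * n ≤ U.card := by
    have ht0 : 0 < 4 * t ^ 2 := by positivity
    have h : (2 * n) * (4 * t ^ 2) ≤ U.card * (4 * t ^ 2) := by
      calc (2 * n) * (4 * t ^ 2) = 8 * t ^ 2 * n := by ring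
        _ ≤ U.card * (2 * t * (2 * t)) := hle
        _ = U.card * (4 * t ^ 2) := by ring
    exact Nat.le_of_mul_le_mul_right h ht0
  have hCf : Cf.card = 2 * t := by
    have h := Nat.card_eq_finsetCard Cf
    rw [← h, ← hcy]
    exact Nat.card_congr (Equiv.subtypeEquivRight (fun x => by simp [hCfdef]))
  have hyC : y ∈ Subgroup.centralizer ({y} : Set G) :=
    Subgroup.mem_centralizer_singleton_iff.mpr rfl
  have h1Cf : (1 : G) ∈ Cf := by
    rw [hCfdef, Finset.mem_filter]; exact ⟨Finset.mem_univ _, Subgroup.one_mem _⟩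
  have hyCf : y ∈ Cf.erase 1 := by
    rw [Finset.mem_erase]
    exact ⟨hy1, by rw [hCfdef, Finset.mem_filter]; exact ⟨Finset.mem_univ _, hyC⟩⟩
  have hW : ((Cf.erase 1).erase y).card = 2 * n := by
    rw [Finset.card_erase_of_mem hyCf, Finset.card_erase_of_mem h1Cf, hCf]; omega
  have hUW : U ⊆ (Cf.erase 1).erase y := by
    intro u hu
    rw [hU, Finset.mem_filter] at hu
    obtain ⟨_, h1, h2, h3, _⟩ := hu
    rw [Finset.mem_erase, Finset.mem_erase, hCfdef, Finset.mem_filter]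
    exact ⟨h3, h2, Finset.mem_univ _, h1⟩
  have hUeq : U = (Cf.erase 1).erase y :=
    Finset.eq_of_subset_of_card_le hUW (by rw [hW]; exact hU2)
  by_cases hcy' : c = y
  · rw [hcy']
  · have hcW : c ∈ (Cf.erase 1).erase y := by
      rw [Finset.mem_erase, Finset.mem_erase, hCfdef, Finset.mem_filter]
      exact ⟨hcy', hc1, Finset.mem_univ _, hc⟩
    rw [← hUeq, hU, Finset.mem_filter] at hcW
    exact hcW.2.2.2.2.symm

end Cfsg.Agent.Lib.Helper67.BRPJ1
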