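import Cfsg.Agent.Lib.Helper16.BRStmt
import Cfsg.Agent.Lib.CT.WBO
import Cfsg.Agent.Lib.CT.ColumnId
import Cfsg.Agent.Lib.Helper80.Integrality

/-!
# Brauer–Reynolds, piece [YA]: the column sum of the exceptional characters
-/

set_option autoImplicit false

namespace Cfsg.Agent.Lib.Helper67.BRYA

open Cfsg Cfsg.Agent.Lib.CT.ThirdMain Cfsg.Agent.Lib.Helper16.BRSpec
open scoped ComplexConjugate

universe u

theorem main : Cfsg.Agent.Lib.Helper16.BRStmt.YaSum.{u} := by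
  intro G _ _ p _ M hM P hP X Y hXY hdisj hYne εX ε hε hX hYdeg hsum z hz hz1
  classical
  have := Cfsg.Agent.Lib.CT.Wedderburn.finite_irrCharacter G
  have hp : p.Prime := Fact.out
  have hzo : orderOf z = p := by
    have h1 : orderOf (⟨z, hz⟩ : (P : Subgroup G)) ∣ p := by
      have h0 := orderOf_dvd_natCard (⟨z, hz⟩ : (P : Subgroup G))
      rwa [hP] at h0
    rcases (Nat.dvd_prime hp).mp h1 with h | h
    · exfalso; apply hz1
      have h2 := orderOf_eq_one_iff.mp h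
      exact congrArg Subtype.val h2
    · rw [← h]; exact (Subgroup.orderOf_mk z hz).symm
  have hwbo := Cfsg.Agent.Lib.CT.WBO.weak_block_orthogonality p M hM (principalBlock M G)
    (Cfsg.Agent.Lib.CT.ColumnId.isPBlock_principal M) 1 z
    (by rw [orderOf_one]; exact hp.not_dvd_one) (by rw [hzo])
  rw [hXY, finsum_mem_union hdisj (Set.toFinite X) (Set.toFinite Y)] at hwbo
  obtain ⟨θ₀, hθ₀⟩ := hYne
  have hXpart : ∑ᶠ χ ∈ X, (χ : G → ℂ) 1 * conj ((χ : G → ℂ) z) = (ε : ℂ) * (θ₀ : G → ℂ) 1 := by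
    rw [hsum θ₀ hθ₀]
    apply finsum_mem_congr rfl
    intro χ hχ
    rw [hX χ hχ z hz hz1, map_intCast, mul_comm]
  have hYpart : ∑ᶠ θ ∈ Y, (θ : G → ℂ) 1 * conj ((θ : G → ℂ) z) =
      (θ₀ : G → ℂ) 1 * conj (∑ᶠ θ ∈ Y, (θ : G → ℂ) z) := by
    have e1 : conj (∑ᶠ θ ∈ Y, (θ : G → ℂ) z) = ∑ᶠ θ ∈ Y, conj ((θ : G → ℂ) z) :=
      AddMonoidHom.map_finsum_mem (fun θ : IrrCharacter G => (θ : G → ℂ) z)
        (starRingEnd ℂ).toAddMonoidHom (Set.toFinite Y)
    rw [e1, mul_finsum_mem]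
    apply finsum_mem_congr rfl
    intro θ hθ
    rw [hYdeg θ hθ θ₀ hθ₀]
  rw [hXpart, hYpart] at hwbo
  have hf : (θ₀ : G → ℂ) 1 ≠ 0 := by
    rw [Cfsg.Agent.Lib.Helper80.Integrality.apply_one_eq_charDegree
      (Cfsg.Agent.Lib.Helper80.Integrality.isCharacter_of_isIrrCharacter θ₀.2)]
    exact Nat.cast_ne_zero.mpr (Cfsg.Agent.Lib.Helper80.Integrality.charDegree_pos θ₀).ne'
  have h3 : conj (∑ᶠ θ ∈ Y, (θ : G → ℂ) z) = -(ε : ℂ) := by
    have h4 : (θ₀ : G → ℂ) 1 * ((ε : ℂ) + conj (∑ᶠ θ ∈ Y, (θ : G → ℂ) z)) = 0 := by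
      linear_combination hwbo
    rcases mul_eq_zero.mp h4 with h | h
    · exact absurd h hf
    · linear_combination h
  have h5 := congrArg conj h3
  rw [Complex.conj_conj] at h5
  rw [h5, map_neg, map_intCast]

end Cfsg.Agent.Lib.Helper67.BRYA
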