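import Mathlib
import Cfsg.Agent.Lib.Helper42.ReeSpStmt

/-!
# S1159 / CE: the number of elements of even order in a group with the Ree axioms

`#{even order} = #{order 2} + #{order 6} + #T1 + 3 · #T2`: an element of even order is uniquely
`s * h` with `s` an involution and `h` of odd order commuting with `s`; `h = 1`, or `h` has order
`3`, or `h ∈ T1` (one involution in its centralizer) or `h ∈ T2` (three involutions).
-/

set_option autoImplicit false
universe u v

namespace Cfsg.Agent.Lib.Helper67.ReeSpCE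

open Cfsg.Agent.Lib.Helper42.ReeSpStmt

theorem qq_mod8 (m : ℕ) : qq m % 8 = 3 := by
  unfold qq
  rw [pow_succ, pow_mul, Nat.mul_mod, Nat.pow_mod]
  norm_num

theorem qq_mod3 (m : ℕ) : qq m % 3 = 0 := by
  unfold qq
  rw [pow_succ]
  exact Nat.mul_mod_left _ _

theorem three_le_qq (m : ℕ) : 3 ≤ qq m := by
  unfold qq
  calc 3 = 3 ^ 1 := rfl
    _ ≤ 3 ^ (2 * m + 1) := Nat.pow_le_pow_right (by norm_num) (by omega)

section general
variable {G : Type*} [Group G]

theorem orderOf_inv_mul (s h : G) (hs : orderOf s = 2) (hh : Odd (orderOf h))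
    (hc : s * h = h * s) : orderOf (s * h) = 2 * orderOf h := by
  have hcop : Nat.Coprime (orderOf s) (orderOf h) := by
    rw [hs]
    exact Nat.coprime_two_left.mpr hh
  have hc' : Commute s h := hc
  rw [hc'.orderOf_mul_eq_mul_orderOf_of_coprime hcop, hs]

theorem recover (s h : G) (hs : orderOf s = 2) (hh : Odd (orderOf h)) (hc : s * h = h * s) :
    (s * h) ^ (orderOf h + 1) = h := by
  have hc' : Commute s h := hc
  rw [hc'.mul_pow, pow_succ h, pow_orderOf_eq_one, one_mul]
  obtain ⟨k, hk⟩ := hh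
  have h1 : orderOf h + 1 = 2 * (k + 1) := by omega
  rw [h1, pow_mul, ← hs, pow_orderOf_eq_one, one_pow, one_mul]

theorem decomp (g : G) (k : ℕ) (hk : Odd k) (hg : orderOf g = 2 * k) :
    orderOf (g ^ k) = 2 ∧ Odd (orderOf (g ^ (k + 1))) ∧
      g ^ k * g ^ (k + 1) = g ^ (k + 1) * g ^ k ∧ g ^ k * g ^ (k + 1) = g := by
  have hk0 : 0 < k := hk.pos
  refine ⟨?_, ?_, ?_, ?_⟩
  · rw [orderOf_pow_of_dvd hk0.ne' (by rw [hg]; exact dvd_mul_left k 2), hg,
      Nat.mul_div_cancel _ hk0]
  · have h1 : (g ^ (k + 1)) ^ k = 1 := by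
      obtain ⟨j, hj⟩ := hk
      rw [← pow_mul]
      have h2 : (k + 1) * k = 2 * k * (j + 1) := by rw [hj]; ring
      rw [h2, pow_mul, ← hg, pow_orderOf_eq_one, one_pow]
    exact Odd.of_dvd_nat hk (orderOf_dvd_of_pow_eq_one h1)
  · rw [← pow_add, ← pow_add, add_comm]
  · rw [← pow_add]
    have h2 : k + (k + 1) = 2 * k + 1 := by ring
    rw [h2, pow_succ, ← hg, pow_orderOf_eq_one, one_mul]

theorem comm_of_cyclic (H : Subgroup G) (hcyc : IsCyclic H) (a : G) (ha : a ∈ H) (b : G)
    (hb : b ∈ H) : a * b = b * a := by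
  letI := @IsCyclic.commGroup H _ hcyc
  exact congrArg Subtype.val (mul_comm (⟨a, ha⟩ : H) ⟨b, hb⟩)

theorem exists_finset [Finite G] (P : G → Prop) :
    ∃ E : Finset G, (∀ g, g ∈ E ↔ P g) ∧ Nat.card {g : G // P g} = E.card := by
  classical
  haveI := Fintype.ofFinite G
  exact ⟨Finset.univ.filter P, by simp, by rw [Nat.card_eq_fintype_card, Fintype.card_subtype]⟩

/-- a cyclic group of even order has exactly one involution -/
theorem unique_involution [Finite G] (H : Subgroup G) (hcyc : IsCyclic H)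
    (h2 : 2 ∣ Nat.card H) :
    ∃ s₀ ∈ H, orderOf s₀ = 2 ∧ ∀ s ∈ H, orderOf s = 2 → s = s₀ := by
  classical
  haveI := Fintype.ofFinite H
  have h := IsCyclic.card_orderOf_eq_totient (α := H) (d := 2)
    (by rwa [← Nat.card_eq_fintype_card])
  rw [Nat.totient_two, Finset.card_eq_one] at h
  obtain ⟨a, ha⟩ := h
  have ha2 : orderOf a = 2 := by
    have h1 : a ∈ Finset.univ.filter (fun a : H => orderOf a = 2) := by
      rw [ha]
      exact Finset.mem_singleton_self a
    exact (Finset.mem_filter.mp h1).2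
  refine ⟨a, a.2, by rw [Subgroup.orderOf_coe]; exact ha2, ?_⟩
  intro s hs hs2
  have h1 : (⟨s, hs⟩ : H) ∈ Finset.univ.filter (fun a : H => orderOf a = 2) := by
    rw [Finset.mem_filter]
    exact ⟨Finset.mem_univ _, by rw [← Subgroup.orderOf_coe]; exact hs2⟩
  rw [ha, Finset.mem_singleton] at h1
  exact congrArg Subtype.val h1

/-- an abelian group of order `4k`, `k` odd, without elements of order 4 has three involutions -/
theorem three_involutions [Finite G] (C : Subgroup G) (k : ℕ) (hk : Odd k)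
    (hcard : Nat.card C = 4 * k) (hcomm : ∀ x ∈ C, ∀ y ∈ C, x * y = y * x)
    (no4 : ∀ x ∈ C, orderOf x ≠ 4) :
    Nat.card {s : G // s ∈ C ∧ orderOf s = 2} = 3 := by
  classical
  haveI : Fact (Nat.Prime 2) := ⟨Nat.prime_two⟩
  let E : Subgroup G :=
    { carrier := {c | c ∈ C ∧ c ^ 2 = 1}
      one_mem' := ⟨C.one_mem, one_pow 2⟩
      mul_mem' := by
        rintro a b ⟨ha, ha2⟩ ⟨hb, hb2⟩
        refine ⟨C.mul_mem ha hb, ?_⟩
        have hc : Commute a b := hcomm a ha b hb
        rw [hc.mul_pow, ha2, hb2, one_mul]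
      inv_mem' := by
        rintro a ⟨ha, ha2⟩
        exact ⟨C.inv_mem ha, by rw [inv_pow, ha2, inv_one]⟩ }
  have hEC : E ≤ C := fun c hc => hc.1
  have hEmem : ∀ c, c ∈ E ↔ c ∈ C ∧ c ^ 2 = 1 := fun c => Iff.rfl
  have hp : IsPGroup 2 E := by
    intro g
    refine ⟨1, ?_⟩
    apply Subtype.ext
    rw [pow_one]
    exact g.2.2
  obtain ⟨n, hn⟩ := hp.exists_card_eq
  have hdvd : Nat.card E ∣ 4 * k := hcard ▸ Subgroup.card_dvd_of_le hEC
  obtain ⟨S, hS⟩ := Sylow.exists_subgroup_card_pow_prime (G := C) 2 (n := 2)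
    (by rw [hcard]; exact Dvd.intro k rfl)
  have hSE : S.map C.subtype ≤ E := by
    rintro _ ⟨x, hx, rfl⟩
    refine ⟨x.2, ?_⟩
    have h4 : (x : G) ^ 4 = 1 := by
      have h5 : (⟨x, hx⟩ : S) ^ 4 = 1 := by
        have h6 := pow_card_eq_one' (G := S) (x := ⟨x, hx⟩)
        rwa [hS] at h6
      have h7 := congrArg (fun t : S => ((t : C) : G)) h5
      simpa using h7
    have hord : orderOf (x : G) ∣ 4 := orderOf_dvd_of_pow_eq_one h4
    have hne := no4 (x : G) x.2
    have h2 : orderOf (x : G) ∣ 2 := by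
      have hle : orderOf (x : G) ≤ 4 := Nat.le_of_dvd (by norm_num) hord
      have h0 : 0 < orderOf (x : G) := Nat.pos_of_dvd_of_pos hord (by norm_num)
      have h3 : orderOf (x : G) ≠ 3 := by
        intro h3
        rw [h3] at hord
        omega
      have : orderOf (x : G) = 1 ∨ orderOf (x : G) = 2 := by omega
      rcases this with h | h <;> rw [h] <;> norm_num
    exact orderOf_dvd_iff_pow_eq_one.mp h2
  have hcardS : Nat.card (S.map C.subtype) = 4 := by
    rw [Subgroup.card_map_of_injective C.subtype_injective, hS]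
    norm_num
  have h4le : 4 ≤ Nat.card E := hcardS ▸ Subgroup.card_le_of_le hSE
  have hE4 : Nat.card E = 4 := by
    have h1 : Nat.card E ∣ 4 := by
      rw [hn] at hdvd ⊢
      exact Nat.Coprime.dvd_of_dvd_mul_right
        (Nat.Coprime.pow_left n (Nat.coprime_two_left.mpr hk)) hdvd
    exact le_antisymm (Nat.le_of_dvd (by norm_num) h1) h4le
  have hset : {s : G | s ∈ C ∧ orderOf s = 2} = (E : Set G) \ {1} := by
    ext s
    simp only [Set.mem_ofPred_eq, Set.mem_sdiff, SetLike.mem_coe, Set.mem_singleton_iff, hEmem,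
      orderOf_eq_prime_iff]
    tauto
  have h1 : Nat.card {s : G // s ∈ C ∧ orderOf s = 2} =
      Set.ncard {s : G | s ∈ C ∧ orderOf s = 2} := Nat.card_coe_set_eq _
  rw [h1, hset, Set.ncard_sdiff_singleton_of_mem (Subgroup.one_mem E), ← Nat.card_coe_set_eq]
  have h2 : Nat.card (E : Set G) = Nat.card E := rfl
  rw [h2, hE4]

/-- in an abelian group of order `4k` the elements of odd order lie in the subgroup of order `k` -/
theorem odd_mem [Finite G] (C A : Subgroup G) (k : ℕ) (hAC : A ≤ C)
    (hcard : Nat.card C = 4 * k) (hA : Nat.card A = k) (hk : 0 < k)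
    (hcomm : ∀ x ∈ C, ∀ y ∈ C, x * y = y * x) (c : G) (hc : c ∈ C) (hodd : Odd (orderOf c)) :
    c ∈ A := by
  haveI : (A.subgroupOf C).Normal := ⟨fun n hn g => by
    have h0 : g * n * g⁻¹ = n := by
      have h1 : g * n = n * g := Subtype.ext (hcomm g g.2 n n.2)
      rw [h1, mul_inv_cancel_right]
    rwa [h0]⟩
  have hidx : (A.subgroupOf C).index = 4 := by
    have h1 := Subgroup.card_mul_index (A.subgroupOf C)
    rw [hcard, Nat.card_congr (Subgroup.subgroupOfEquivOfLe hAC).toEquiv, hA] at h1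
    exact Nat.eq_of_mul_eq_mul_left hk (by rw [h1]; ring)
  obtain ⟨x, hx⟩ : ∃ x : C ⧸ A.subgroupOf C, x = QuotientGroup.mk ⟨c, hc⟩ := ⟨_, rfl⟩
  have h4 : x ^ 4 = 1 := by
    have h5 := pow_card_eq_one' (G := C ⧸ A.subgroupOf C) (x := x)
    rwa [← Subgroup.index_eq_card, hidx] at h5
  have ho : x ^ orderOf c = 1 := by
    rw [hx, ← QuotientGroup.mk_pow]
    have h5 : (⟨c, hc⟩ : C) ^ orderOf c = 1 := Subtype.ext (by simp [pow_orderOf_eq_one])
    rw [h5]
    rfl
  have h1 : x ^ Nat.gcd 4 (orderOf c) = 1 := pow_gcd_eq_one.mpr ⟨h4, ho⟩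
  have hg : Nat.gcd 4 (orderOf c) = 1 := by
    have h5 : Nat.Coprime (2 ^ 2) (orderOf c) :=
      Nat.Coprime.pow_left 2 (Nat.coprime_two_left.mpr hodd)
    exact h5
  rw [hg, pow_one, hx] at h1
  have h6 := (QuotientGroup.eq_one_iff _).mp h1
  exact Subgroup.mem_subgroupOf.mp h6

end general

theorem main : CE.{u, v} := by
  intro G _ _ U H A K _ _ m ax h3 hEv hH hA
  classical
  unfold CEC
  have hq8 := qq_mod8 m
  have hq3 := qq_mod3 m
  have hq27 := three_le_qq m
  obtain ⟨E, hE, hEc⟩ := exists_finset (fun g : G => 2 ∣ orderOf g)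
  obtain ⟨I2, hI2, hI2c⟩ := exists_finset (fun g : G => orderOf g = 2)
  obtain ⟨I6, hI6, hI6c⟩ := exists_finset (fun g : G => orderOf g = 6)
  obtain ⟨F1, hF1, hF1c⟩ := exists_finset (T1 G H)
  obtain ⟨F2, hF2, hF2c⟩ := exists_finset (T2 G A)
  rw [hEc, hI2c, hI6c, hF1c, hF2c]
  obtain ⟨J, hJ⟩ : ∃ J : G → Finset G, ∀ h s, s ∈ J h ↔ (orderOf s = 2 ∧ s * h = h * s) := by
    haveI := Fintype.ofFinite G
    exact ⟨fun h => Finset.univ.filter (fun s => orderOf s = 2 ∧ s * h = h * s),
      by intro h s; simp⟩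
  have hoconj : ∀ x s : G, orderOf (x * s * x⁻¹) = orderOf s := fun x s =>
    (MulAut.conj x).orderOf_eq s
  -- conjugation invariance of the number of involutions in the centralizer
  have hJconj : ∀ x h : G, (J (x * h * x⁻¹)).card = (J h).card := by
    intro x h
    symm
    apply Finset.card_equiv (MulAut.conj x).toEquiv
    intro s
    rw [hJ, hJ]
    have key : ∀ a b : G, (x * a * x⁻¹) * (x * b * x⁻¹) = x * (a * b) * x⁻¹ := by
      intro a b
      group
    show _ ↔ orderOf (x * s * x⁻¹) = 2 ∧ (x * s * x⁻¹) * (x * h * x⁻¹) = (x * h * x⁻¹) * (x * s * x⁻¹)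
    rw [hoconj, key, key]
    constructor
    · rintro ⟨h1, h2⟩
      exact ⟨h1, by rw [h2]⟩
    · rintro ⟨h1, h2⟩
      exact ⟨h1, mul_left_cancel (mul_right_cancel h2)⟩
  have hconj_ne : ∀ x h : G, h ≠ 1 → x * h * x⁻¹ ≠ 1 := by
    intro x h hne h1
    apply hne
    have h2 : h = x⁻¹ * (x * h * x⁻¹) * x := by group
    rw [h2, h1]
    group
  -- elements of the first kind
  have hν1 : ∀ h, T1 G H h → (J h).card = 1 ∧ ¬ 3 ∣ orderOf h := by
    rintro h ⟨hne, hodd, x, hx⟩
    have hne' := hconj_ne x h hne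
    have hodd' : Odd (orderOf (x * h * x⁻¹)) := by rw [hoconj]; exact hodd
    refine ⟨?_, ?_⟩
    · rw [← hJconj x h]
      obtain ⟨s₀, hs₀H, hs₀2, huniq⟩ := unique_involution H ax.cycH (by rw [ax.cardH]; omega)
      rw [Finset.card_eq_one]
      refine ⟨s₀, ?_⟩
      ext s
      rw [hJ, Finset.mem_singleton]
      constructor
      · rintro ⟨hs2, hsc⟩
        exact huniq s (ax.centH _ hx hne' hodd' s hsc) hs2
      · rintro rfl
        exact ⟨hs₀2, comm_of_cyclic H ax.cycH _ hs₀H _ hx⟩
    · rw [← hoconj x h]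
      intro h3'
      have h4 := Subgroup.orderOf_dvd_natCard H hx
      rw [ax.cardH] at h4
      have h5 := h3'.trans h4
      omega
  -- elements of the second kind
  have hkodd : Odd ((qq m + 1) / 4) := by
    rw [Nat.odd_iff]
    omega
  have h4k : qq m + 1 = 4 * ((qq m + 1) / 4) := by omega
  have hAC : A ≤ Subgroup.centralizer (A : Set G) := by
    intro a ha
    rw [Subgroup.mem_centralizer_iff]
    intro b hb
    exact comm_of_cyclic A ax.cycA b hb a ha
  have hν2 : ∀ h, T2 G A h → (J h).card = 3 ∧ ¬ 3 ∣ orderOf h := by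
    rintro h ⟨hne, hodd, x, hx⟩
    have hne' := hconj_ne x h hne
    have hodd' : Odd (orderOf (x * h * x⁻¹)) := by rw [hoconj]; exact hodd
    have hmemA : x * h * x⁻¹ ∈ A :=
      odd_mem (Subgroup.centralizer (A : Set G)) A ((qq m + 1) / 4) hAC
        (by rw [ax.cardCA]; exact h4k) ax.cardA (by omega) ax.commCA _ hx hodd'
    have hcent := ax.centA _ hmemA hne'
    refine ⟨?_, ?_⟩
    · rw [← hJconj x h]
      have h3' := three_involutions (Subgroup.centralizer (A : Set G)) ((qq m + 1) / 4) hkodd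
        (by rw [ax.cardCA]; exact h4k) ax.commCA ax.no4
      obtain ⟨T, hT, hTc⟩ := exists_finset
        (fun s : G => s ∈ Subgroup.centralizer (A : Set G) ∧ orderOf s = 2)
      rw [hTc] at h3'
      rw [← h3']
      congr 1
      ext s
      rw [hJ, hT, ← hcent, Subgroup.mem_centralizer_iff]
      constructor
      · rintro ⟨h1, h2⟩
        exact ⟨by intro y hy; rw [Set.mem_singleton_iff.mp hy]; exact h2.symm, h1⟩
      · rintro ⟨h1, h2⟩
        exact ⟨h2, (h1 _ (Set.mem_singleton _)).symm⟩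
    · rw [← hoconj x h]
      intro h3'
      have h4 := Subgroup.orderOf_dvd_natCard _ hx
      rw [ax.cardCA] at h4
      have h5 := h3'.trans h4
      omega
  -- the order of an element of even order is twice an odd number
  have hodd2 : ∀ g : G, 2 ∣ orderOf g → Odd (orderOf g / 2) := by
    intro g hg
    have h4 : ¬ 4 ∣ orderOf g := by
      intro h4
      rcases hEv g hg with h | h | h
      · have h5 := h4.trans h
        omega
      · have h5 := h4.trans h
        omega
      · have h5 := h4.trans h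
        omega
    rw [Nat.odd_iff]
    omega
  have hoddF : ∀ h ∈ F1 ∪ F2, (h ≠ 1 ∧ Odd (orderOf h)) ∧ ¬ 3 ∣ orderOf h := by
    intro h hh
    rcases Finset.mem_union.mp hh with h1 | h1
    · have h2 := (hF1 h).mp h1
      exact ⟨⟨h2.1, h2.2.1⟩, (hν1 h h2).2⟩
    · have h2 := (hF2 h).mp h1
      exact ⟨⟨h2.1, h2.2.1⟩, (hν2 h h2).2⟩
  obtain ⟨E', hE'⟩ : ∃ E' : Finset G,
      E' = (F1 ∪ F2).biUnion (fun h => (J h).image (fun s => s * h)) := ⟨_, rfl⟩
  have hmemE' : ∀ g, g ∈ E' ↔ (2 ∣ orderOf g ∧ orderOf g ≠ 2 ∧ ¬ 3 ∣ orderOf g) := by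
    intro g
    rw [hE', Finset.mem_biUnion]
    constructor
    · rintro ⟨h, hh, hg⟩
      rw [Finset.mem_image] at hg
      obtain ⟨s, hs, rfl⟩ := hg
      rw [hJ] at hs
      obtain ⟨⟨hne, hodd⟩, hn3⟩ := hoddF h hh
      have ho := orderOf_inv_mul s h hs.1 hodd hs.2
      rw [ho]
      refine ⟨dvd_mul_right 2 _, ?_, ?_⟩
      · intro h2
        have h1 : orderOf h = 1 := by omega
        exact hne (orderOf_eq_one_iff.mp h1)
      · intro h3'
        exact hn3 ((Nat.Coprime.dvd_mul_left (by norm_num : Nat.Coprime 3 2)).mp h3')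
    · rintro ⟨h2, hne2, hn3⟩
      obtain ⟨k, hk⟩ := h2
      have hkodd' : Odd k := by
        have h1 := hodd2 g ⟨k, hk⟩
        rwa [hk, Nat.mul_div_cancel_left _ (by norm_num)] at h1
      obtain ⟨hs2, hhodd, hcomm, hprod⟩ := decomp g k hkodd' hk
      have hoh : orderOf (g ^ (k + 1)) = k := by
        have h1 := orderOf_inv_mul _ _ hs2 hhodd hcomm
        rw [hprod, hk] at h1
        omega
      have hk1 : k ≠ 1 := by
        rintro rfl
        exact hne2 (by rw [hk])
      have hhne : g ^ (k + 1) ≠ 1 := by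
        intro h1
        rw [h1, orderOf_one] at hoh
        exact hk1 hoh.symm
      have hp := Nat.minFac_prime hk1
      have hpk : k.minFac ∣ k := Nat.minFac_dvd k
      have hp2 : k.minFac ≠ 2 := by
        intro h2
        rw [h2] at hpk
        exact (Nat.not_even_iff_odd.mpr hkodd') (even_iff_two_dvd.mpr hpk)
      have hpo : k.minFac ∣ orderOf (g ^ (k + 1)) := by rw [hoh]; exact hpk
      have hpg : k.minFac ∣ orderOf g := by rw [hk]; exact hpk.mul_left 2
      have hT : T1 G H (g ^ (k + 1)) ∨ T2 G A (g ^ (k + 1)) := by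
        rcases hEv g ⟨k, hk⟩ with h | h | h
        · exfalso
          have h6 : k.minFac ∣ 2 * 3 := hpg.trans h
          rcases (Nat.Prime.dvd_mul hp).mp h6 with h' | h'
          · exact hp2 ((Nat.prime_dvd_prime_iff_eq hp Nat.prime_two).mp h')
          · have h7 : k.minFac = 3 := (Nat.prime_dvd_prime_iff_eq hp Nat.prime_three).mp h'
            rw [h7] at hpg
            exact hn3 hpg
        · left
          exact ⟨hhne, hhodd, hH _ _ hp hp2 hpo (hpg.trans h)⟩
        · right
          exact ⟨hhne, hhodd, hA _ _ hp hp2 hpo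
            ((hpg.trans h).trans (Nat.div_dvd_of_dvd (by omega)))⟩
      refine ⟨g ^ (k + 1), ?_, ?_⟩
      · rw [Finset.mem_union, hF1, hF2]
        exact hT
      · rw [Finset.mem_image]
        exact ⟨g ^ k, (hJ _ _).mpr ⟨hs2, hcomm⟩, hprod⟩
  have hEeq : E = I2 ∪ (I6 ∪ E') := by
    ext g
    rw [Finset.mem_union, Finset.mem_union, hE, hI2, hI6, hmemE']
    constructor
    · intro h2
      by_cases h3' : 3 ∣ orderOf g
      · rcases h3 g h3' with h | h | h
        · rw [h] at h2
          omega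
        · right
          left
          exact h
        · rw [h] at h2
          omega
      · by_cases h22 : orderOf g = 2
        · left
          exact h22
        · right
          right
          exact ⟨h2, h22, h3'⟩
    · rintro (h | h | h)
      · rw [h]
      · rw [h]
        norm_num
      · exact h.1
  have hd1 : Disjoint I2 (I6 ∪ E') := by
    rw [Finset.disjoint_left]
    intro g hg2 hg
    rw [hI2] at hg2
    rw [Finset.mem_union, hI6, hmemE'] at hg
    rcases hg with h | h
    · omega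
    · exact h.2.1 hg2
  have hd2 : Disjoint I6 E' := by
    rw [Finset.disjoint_left]
    intro g hg6 hg
    rw [hI6] at hg6
    rw [hmemE'] at hg
    exact hg.2.2 (by rw [hg6]; norm_num)
  have hcardE' : E'.card = F1.card + 3 * F2.card := by
    rw [hE', Finset.card_biUnion]
    · have hd : Disjoint F1 F2 := by
        rw [Finset.disjoint_left]
        intro h h1 h2
        have a1 := (hν1 h ((hF1 h).mp h1)).1
        have a2 := (hν2 h ((hF2 h).mp h2)).1
        omega
      rw [Finset.sum_union hd]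
      have e1 : ∑ h ∈ F1, ((J h).image (fun s => s * h)).card = F1.card := by
        rw [Finset.card_eq_sum_ones F1]
        refine Finset.sum_congr rfl (fun h hh => ?_)
        rw [Finset.card_image_of_injective _ (mul_left_injective h)]
        exact (hν1 h ((hF1 h).mp hh)).1
      have e2 : ∑ h ∈ F2, ((J h).image (fun s => s * h)).card = 3 * F2.card := by
        rw [mul_comm, ← smul_eq_mul, ← Finset.sum_const]
        refine Finset.sum_congr rfl (fun h hh => ?_)
        rw [Finset.card_image_of_injective _ (mul_left_injective h)]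
        exact (hν2 h ((hF2 h).mp hh)).1
      rw [e1, e2]
    · intro h hh h' hh' hne
      have hh := Finset.mem_coe.mp hh
      have hh' := Finset.mem_coe.mp hh'
      show Disjoint _ _
      rw [Finset.disjoint_left]
      intro g hg hg'
      rw [Finset.mem_image] at hg hg'
      obtain ⟨s, hs, rfl⟩ := hg
      obtain ⟨s', hs', heq⟩ := hg'
      rw [hJ] at hs hs'
      have ho1 := (hoddF h hh).1.2
      have ho2 := (hoddF h' hh').1.2
      have o1 := orderOf_inv_mul s h hs.1 ho1 hs.2
      have o2 := orderOf_inv_mul s' h' hs'.1 ho2 hs'.2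
      rw [heq] at o2
      have h5 : orderOf h = orderOf h' := by omega
      have r1 := recover s h hs.1 ho1 hs.2
      have r2 := recover s' h' hs'.1 ho2 hs'.2
      rw [heq, ← h5, r1] at r2
      exact hne r2
  rw [hEeq, Finset.card_union_of_disjoint hd1, Finset.card_union_of_disjoint hd2, hcardE']
  ring

end Cfsg.Agent.Lib.Helper67.ReeSpCE
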