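import Mathlib
import Cfsg.Agent.Lib.Helper4.UniStmt

set_option autoImplicit false

/-! Piece XMP of S4395 (helper4's split): the field model at the level of `X`, from the field
model of `(↥P, conjugation by y)`. -/

namespace Cfsg.Agent.Lib.Helper67.UniXMP

open Cfsg.Agent.Lib.Helper4.UniStmt

universe u

/-- piece XMP -/
theorem main : XMP.{u} := by
  intro hHYP hFM p q r t _ _ hpq hr X _ _ P y hSD
  classical
  have hSD' := hSD
  obtain ⟨hPn, -, -, hgen, -, -, -⟩ := hSD'
  have : P.Normal := hPn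
  have hHyp := hHYP p q r t hpq hr X P y hSD
  obtain ⟨F, iF, iFin, iChar, eT, lam, hM⟩ := hFM p q hpq ↥P (MulAut.conjNormal y) hHyp
  obtain ⟨hadd, hsurj, hker, hcen, -, hlam, hlam1, hlamq, hirr⟩ := hM
  refine ⟨F, iF, iFin, iChar, fun x => if h : x ∈ P then eT ⟨x, h⟩ else 0, lam, ?_, ?_, ?_, ?_,
    hlam1, hlamq, hirr⟩
  · intro u hu v hv
    have huv : u * v ∈ P := P.mul_mem hu hv
    simp only [dif_pos hu, dif_pos hv, dif_pos huv]
    exact hadd ⟨u, hu⟩ ⟨v, hv⟩
  · intro x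
    obtain ⟨⟨u, hu⟩, rfl⟩ := hsurj x
    exact ⟨u, hu, by simp only [dif_pos hu]⟩
  · intro u hu h0
    simp only [dif_pos hu] at h0
    have hfix : MulAut.conjNormal y (⟨u, hu⟩ : ↥P) = ⟨u, hu⟩ := (hker _).1 h0
    have hyu : y * u * y⁻¹ = u := by
      have := congrArg Subtype.val hfix
      rwa [MulAut.conjNormal_apply] at this
    have hyu' : y * u = u * y := mul_inv_eq_iff_eq_mul.1 hyu
    have hc := hcen _ hfix
    rw [Subgroup.mem_center_iff] at hc ⊢
    intro x
    obtain ⟨w, hw, k, rfl⟩ := hgen x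
    have h1 : w * u = u * w := congrArg Subtype.val (hc ⟨w, hw⟩)
    have h2 : y ^ k * u = u * y ^ k := ((Commute.pow_left (show Commute y u from hyu') k)).eq
    rw [mul_assoc, h2, ← mul_assoc, h1, mul_assoc]
  · intro u hu
    have hyu : y * u * y⁻¹ ∈ P := hPn.conj_mem u hu y
    simp only [dif_pos hu, dif_pos hyu]
    have e : (⟨y * u * y⁻¹, hyu⟩ : ↥P) = MulAut.conjNormal y (⟨u, hu⟩ : ↥P) := by
      apply Subtype.ext
      rw [MulAut.conjNormal_apply]
    rw [e]
    exact hlam _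

end Cfsg.Agent.Lib.Helper67.UniXMP
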