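import Cfsg.Agent.Lib.Helper25.AICSpec

/-!
S2202 piece PL5: generation by involutions and `C_G(S)`, and the core of `N_G(S)`.
-/

set_option autoImplicit false

namespace Cfsg.Agent.Lib.Helper67.AICPL5

open Subgroup Cfsg.Agent.Lib.Helper25.AICSpec

universe u

section basic

variable {G : Type u} [Group G]

theorem sq_of_order {x : G} (h : orderOf x = 2) : x * x = 1 := by
  rw [← pow_two, ← h]; exact pow_orderOf_eq_one x

theorem ne_one_of_order {x : G} (h : orderOf x = 2) : x ≠ 1 := by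
  intro h1; rw [h1, orderOf_one] at h; norm_num at h

theorem order_two {x : G} (h : x * x = 1) (h1 : x ≠ 1) : orderOf x = 2 := by
  have : Fact (Nat.Prime 2) := ⟨Nat.prime_two⟩
  exact orderOf_eq_prime (by rw [pow_two]; exact h) h1

theorem order_conj (g x : G) : orderOf (g⁻¹ * x * g) = orderOf x := by
  have h := (MulAut.conj g⁻¹).orderOf_eq x
  rw [MulAut.conj_apply, inv_inv] at h
  exact h

/-- `Cfsg.Agent.Lib.Helper25.AICSpec.Inv G` is stable under conjugation. -/
theorem conj_mem_Inv (c l : G) (hl : l ∈ Cfsg.Agent.Lib.Helper25.AICSpec.Inv G) : c * l * c⁻¹ ∈ Cfsg.Agent.Lib.Helper25.AICSpec.Inv G := by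
  have h : Cfsg.Agent.Lib.Helper25.AICSpec.Inv G ≤ (Cfsg.Agent.Lib.Helper25.AICSpec.Inv G).comap (MulAut.conj c).toMonoidHom := by
    unfold Cfsg.Agent.Lib.Helper25.AICSpec.Inv
    rw [closure_le]
    intro t ht
    have ht' : orderOf t = 2 := ht
    show c * t * c⁻¹ ∈ closure {t : G | orderOf t = 2}
    apply Subgroup.subset_closure
    show orderOf (c * t * c⁻¹) = 2
    rw [← ht']
    exact (MulAut.conj c).orderOf_eq t
  exact h hl

theorem mem_Inv_of_order {t : G} (ht : orderOf t = 2) : t ∈ Cfsg.Agent.Lib.Helper25.AICSpec.Inv G := Subgroup.subset_closure ht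

/-- An element of 2-power order and of odd order is trivial. -/
theorem eq_one_of_two_pow_of_odd {y : G} (h2 : ∃ k : ℕ, y ^ 2 ^ k = 1) (hodd : Odd (orderOf y)) :
    y = 1 := by
  obtain ⟨k, hk⟩ := h2
  obtain ⟨j, -, hj⟩ := (Nat.dvd_prime_pow Nat.prime_two).mp (orderOf_dvd_of_pow_eq_one hk)
  rw [hj] at hodd
  have hj0 : j = 0 := by
    by_contra h
    have h2 : Even (2 ^ j) := (Nat.even_pow.mpr ⟨even_two, h⟩)
    exact (Nat.not_even_iff_odd.mpr hodd) h2
  rw [hj0, pow_zero] at hj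
  exact orderOf_eq_one_iff.mp hj

end basic

theorem main : PL5.{u} := by
  intro G _ _ S hyp l1 h3 l2 hcoset l4
  obtain ⟨-, -, hnn⟩ := hyp
  have hf2 : Fact (Nat.Prime 2) := ⟨Nat.prime_two⟩
  -- an involution of `S`
  obtain ⟨⟨t₀, ht₀S, ht₀⟩⟩ : Nonempty {t : G // t ∈ S ∧ orderOf t = 2} := by
    by_contra hne
    rw [not_nonempty_iff] at hne
    have h0 : qm1 S = 0 := Nat.card_of_isEmpty
    omega
  -- an element outside `N(S)`
  obtain ⟨g₀, hg₀⟩ : ∃ g : G, g ∉ NS S := by
    by_contra hall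
    apply hnn
    have htop : normalizer ((S : Subgroup G) : Set G) = ⊤ := by
      rw [eq_top_iff]
      intro g _
      by_contra hg
      exact hall ⟨g, hg⟩
    exact normalizer_eq_top_iff.mp htop
  -- an involution outside `N(S)`
  obtain ⟨w, hw, hwH⟩ : ∃ w : G, orderOf w = 2 ∧ w ∉ NS S := by
    refine ⟨g₀⁻¹ * t₀ * g₀, (order_conj g₀ t₀).trans ht₀, ?_⟩
    intro h
    have h1 := l1.inv_mem _ h ((order_conj g₀ t₀).trans ht₀)
    exact hg₀ (l1.ti g₀ t₀ ht₀S (ne_one_of_order ht₀) h1)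
  have hww := sq_of_order hw
  -- elements of `N(S)`
  have genH : ∀ h : G, h ∈ NS S → ∃ l ∈ Cfsg.Agent.Lib.Helper25.AICSpec.Inv G, ∃ c ∈ CS S, h = l * c := by
    intro h hh
    obtain ⟨d, hd, hwd, hc⟩ := l4.transv w hw hwH h hh
    have hdw : d * w ∈ Cfsg.Agent.Lib.Helper25.AICSpec.Inv G := by
      by_cases h1 : d * w = 1
      · rw [h1]; exact one_mem _
      · apply mem_Inv_of_order
        apply order_two _ h1
        calc d * w * (d * w) = d * (w * d * w) := by simp only [mul_assoc]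
          _ = 1 := by rw [hwd, mul_inv_cancel]
    have hdI : d ∈ Cfsg.Agent.Lib.Helper25.AICSpec.Inv G := by
      have e : d = d * w * w := by rw [mul_assoc, hww, mul_one]
      rw [e]
      exact mul_mem hdw (mem_Inv_of_order hw)
    refine ⟨(h * d⁻¹) * d * (h * d⁻¹)⁻¹, conj_mem_Inv _ _ hdI, h * d⁻¹, hc, ?_⟩
    simp only [mul_assoc, inv_mul_cancel, mul_one]
  have gen : ∀ g : G, ∃ l ∈ Cfsg.Agent.Lib.Helper25.AICSpec.Inv G, ∃ c ∈ CS S, g = l * c := by
    intro g
    by_cases hg : g ∈ NS S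
    · exact genH g hg
    · obtain ⟨⟨h, hh, hv⟩⟩ : Nonempty {h : G // h ∈ NS S ∧ orderOf (h * g) = 2} := by
        by_contra hne
        rw [not_nonempty_iff] at hne
        have h0 := hcoset g hg
        rw [Nat.card_of_isEmpty] at h0
        omega
      obtain ⟨l₁, hl₁, c₁, hc₁, he⟩ := genH h⁻¹ (inv_mem hh)
      refine ⟨l₁ * (c₁ * (h * g) * c₁⁻¹), mul_mem hl₁ (conj_mem_Inv _ _ (mem_Inv_of_order hv)),
        c₁, hc₁, ?_⟩
      have e : g = h⁻¹ * (h * g) := by rw [inv_mul_cancel_left]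
      calc g = h⁻¹ * (h * g) := e
        _ = l₁ * c₁ * (h * g) := by rw [he]
        _ = l₁ * (c₁ * (h * g) * c₁⁻¹) * c₁ := by
            simp only [mul_assoc, inv_mul_cancel, mul_one]
  -- the core
  have hNle : (NS S).normalCore ≤ NS S := normalCore_le _
  have hNn : (NS S).normalCore.Normal := normalCore_normal _
  have noinv : ∀ x : G, x ∈ (NS S).normalCore → orderOf x ≠ 2 := by
    intro x hx hox
    have hxS : x ∈ S := l1.inv_mem x (hNle hx) hox
    apply hnn
    have htop : normalizer ((S : Subgroup G) : Set G) = ⊤ := by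
      rw [eq_top_iff]
      intro g _
      have h1 : g⁻¹ * x * g ∈ (NS S).normalCore := by
        have := hNn.conj_mem x hx g⁻¹
        rwa [inv_inv] at this
      have h2 : g⁻¹ * x * g ∈ S := l1.inv_mem _ (hNle h1) ((order_conj g x).trans hox)
      exact l1.ti g x hxS (ne_one_of_order hox) h2
    exact normalizer_eq_top_iff.mp htop
  have hodd : Odd (Nat.card (NS S).normalCore) := by
    rw [← Nat.not_even_iff_odd]
    intro hev
    obtain ⟨x, hx⟩ := exists_prime_orderOf_dvd_card' (G := (NS S).normalCore) 2 hev.two_dvd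
    exact noinv x x.2 (by rw [Subgroup.orderOf_coe]; exact hx)
  have hNodd : ∀ x : G, x ∈ (NS S).normalCore → Odd (orderOf x) := by
    intro x hx
    have h1 : orderOf (⟨x, hx⟩ : (NS S).normalCore) ∣ Nat.card (NS S).normalCore :=
      orderOf_dvd_natCard _
    rw [← Subgroup.orderOf_coe] at h1
    exact Odd.of_dvd_nat hodd h1
  have hNC : (NS S).normalCore ≤ CS S := by
    intro n hn
    show n ∈ centralizer ((S : Subgroup G) : Set G)
    rw [mem_centralizer_iff]
    intro s hs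
    have hs' : s ∈ (S : Subgroup G) := hs
    have h1 : n * s * n⁻¹ ∈ (S : Subgroup G) := (mem_normalizer_iff.mp (hNle hn) s).mp hs'
    have h2 : n * s * n⁻¹ * s⁻¹ ∈ (S : Subgroup G) := mul_mem h1 (inv_mem hs')
    have h3 : n * s * n⁻¹ * s⁻¹ ∈ (NS S).normalCore := by
      have h4 : s * n⁻¹ * s⁻¹ ∈ (NS S).normalCore := hNn.conj_mem _ (inv_mem hn) s
      have e : n * s * n⁻¹ * s⁻¹ = n * (s * n⁻¹ * s⁻¹) := by simp only [mul_assoc]
      rw [e]; exact mul_mem hn h4
    have h5 : n * s * n⁻¹ * s⁻¹ = 1 := by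
      apply eq_one_of_two_pow_of_odd _ (hNodd _ h3)
      obtain ⟨k, hk⟩ := S.isPGroup' ⟨_, h2⟩
      refine ⟨k, ?_⟩
      have := congrArg Subtype.val hk
      rwa [Subgroup.coe_pow] at this
    have h6 : n * s * n⁻¹ = s := by
      rw [mul_inv_eq_one] at h5; exact h5
    rw [mul_inv_eq_iff_eq_mul] at h6
    exact h6.symm
  have hNinv : ∀ n : G, n ∈ (NS S).normalCore → ∀ t : G, orderOf t = 2 → n * t = t * n := by
    intro n hn t ht
    obtain ⟨g, hg⟩ := l2.conj t₀ t ht₀ ht
    have h1 : g * n * g⁻¹ ∈ CS S := hNC (hNn.conj_mem n hn g)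
    have h2 : t₀ * (g * n * g⁻¹) = (g * n * g⁻¹) * t₀ := by
      have := h1
      rw [show CS S = centralizer ((S : Subgroup G) : Set G) from rfl, mem_centralizer_iff] at this
      exact this t₀ ht₀S
    rw [← hg]
    calc n * (g⁻¹ * t₀ * g) = g⁻¹ * ((g * n * g⁻¹) * t₀) * g := by
          simp only [mul_assoc, inv_mul_cancel_left]
      _ = g⁻¹ * (t₀ * (g * n * g⁻¹)) * g := by rw [h2]
      _ = g⁻¹ * t₀ * g * n := by
          simp only [mul_assoc, inv_mul_cancel, mul_one]
  have hNInv : ∀ n : G, n ∈ (NS S).normalCore → ∀ l : G, l ∈ Cfsg.Agent.Lib.Helper25.AICSpec.Inv G → n * l = l * n := by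
    intro n hn l hl
    have h1 : Cfsg.Agent.Lib.Helper25.AICSpec.Inv G ≤ centralizer ({n} : Set G) := by
      unfold Cfsg.Agent.Lib.Helper25.AICSpec.Inv
      rw [closure_le]
      intro t ht
      rw [SetLike.mem_coe, mem_centralizer_iff]
      intro y hy
      rw [Set.mem_singleton_iff] at hy
      rw [hy]
      exact hNinv n hn t ht
    have h2 := h1 hl
    rw [mem_centralizer_iff] at h2
    exact h2 n rfl
  refine ⟨gen, ?_, hodd⟩
  intro n hn
  rw [mem_center_iff]
  intro g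
  obtain ⟨l, hl, c, hc, rfl⟩ := gen g
  have h1 := hNInv n hn l hl
  have h2 : n * c = c * n := l1.comm n c (hNC hn) hc
  calc l * c * n = l * (n * c) := by rw [h2, mul_assoc]
    _ = n * l * c := by rw [← mul_assoc, ← h1]
    _ = n * (l * c) := by rw [mul_assoc]

end Cfsg.Agent.Lib.Helper67.AICPL5
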