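import Cfsg.Agent.Lib.Helper25.AICSpec
import Cfsg.Agent.Lib.Helper67.AICPL5

/-!
S2202 piece StepC: `QProp` lifts from the quotient by a central subgroup of odd order.
-/

set_option autoImplicit false

namespace Cfsg.Agent.Lib.Helper67.AICStepC

open Subgroup Cfsg.Agent.Lib.Helper25.AICSpec Cfsg.Agent.Lib.Helper67.AICPL5

universe u

theorem main : StepC.{u} := by
  intro G _ _ S hyp loc N _ hNZ hNodd T hT hcardT hcardSyl hQ
  obtain ⟨hQ1, hQ2, hQ3⟩ := hQ
  have hNoddE : ∀ z : G, z ∈ N → Odd (orderOf z) := by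
    intro z hz
    have h1 : orderOf (⟨z, hz⟩ : N) ∣ Nat.card N := orderOf_dvd_natCard _
    rw [← Subgroup.orderOf_coe] at h1
    exact Odd.of_dvd_nat hNodd h1
  refine ⟨?_, ?_, ?_⟩
  · intro a ha
    obtain ⟨haC, haodd⟩ := ha
    have haC' : ∀ s : G, s ∈ (S : Subgroup G) → s * a = a * s := by
      intro s hs
      have h := haC
      rw [show CS S = centralizer ((S : Subgroup G) : Set G) from rfl, mem_centralizer_iff] at h
      exact h s hs
    have hmkA : QuotientGroup.mk' N a ∈ Aset T := by
      refine ⟨?_, ?_⟩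
      · show QuotientGroup.mk' N a ∈ centralizer ((T : Subgroup (G ⧸ N)) : Set (G ⧸ N))
        rw [mem_centralizer_iff]
        intro y hy
        have hy' : y ∈ (T : Subgroup (G ⧸ N)) := hy
        rw [hT] at hy'
        obtain ⟨s, hs, rfl⟩ := Subgroup.mem_map.mp hy'
        rw [← map_mul, ← map_mul, haC' s hs]
      · exact Odd.of_dvd_nat haodd (orderOf_map_dvd _ a)
    have hcen := hQ1 _ hmkA
    rw [mem_center_iff] at hcen
    have hf : ∀ g : G, a⁻¹ * g⁻¹ * a * g ∈ N := by
      intro g
      have h1 := hcen (QuotientGroup.mk' N g)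
      rw [← map_mul, ← map_mul, QuotientGroup.mk'_apply, QuotientGroup.mk'_apply,
        QuotientGroup.eq] at h1
      have e : a⁻¹ * g⁻¹ * a * g = (g * a)⁻¹ * (a * g) := by
        rw [mul_inv_rev]; simp only [mul_assoc]
      rw [e]; exact h1
    have hinv : ∀ t : G, orderOf t = 2 → t * a = a * t := by
      intro t ht
      obtain ⟨z, hz⟩ : ∃ z : G, z = a⁻¹ * t⁻¹ * a * t := ⟨_, rfl⟩
      have hzN : z ∈ N := by rw [hz]; exact hf t
      have hzc : ∀ x : G, x * z = z * x := fun x => mem_center_iff.mp (hNZ hzN) x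
      have e1 : t⁻¹ * a * t = a * z := by
        rw [hz]; simp only [mul_assoc, mul_inv_cancel_left]
      have htt : t * t = 1 := sq_of_order ht
      have hti : t⁻¹ = t := inv_eq_of_mul_eq_one_right htt
      have e3 : t⁻¹ * (t⁻¹ * a * t) * t = a := by
        rw [hti]
        calc t * (t * a * t) * t = (t * t) * a * (t * t) := by simp only [mul_assoc]
          _ = a := by rw [htt, one_mul, mul_one]
      have e4 : t⁻¹ * (a * z) * t = a * z * z := by
        calc t⁻¹ * (a * z) * t = t⁻¹ * a * (z * t) := by simp only [mul_assoc]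
          _ = t⁻¹ * a * (t * z) := by rw [hzc t]
          _ = (t⁻¹ * a * t) * z := by simp only [mul_assoc]
          _ = a * z * z := by rw [e1]
      rw [e1, e4] at e3
      have e2 : z * z = 1 := by
        have h : a * (z * z) = a * 1 := by rw [mul_one, ← mul_assoc]; exact e3
        exact mul_left_cancel h
      have hz1 : z = 1 :=
        eq_one_of_two_pow_of_odd ⟨1, by rw [pow_one, pow_two]; exact e2⟩ (hNoddE z hzN)
      rw [hz1, mul_one] at e1
      calc t * a = t * (t⁻¹ * a * t) := by rw [e1]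
        _ = a * t := by simp only [mul_assoc, mul_inv_cancel_left]
    have hInv : ∀ l : G, l ∈ Cfsg.Agent.Lib.Helper25.AICSpec.Inv G → a * l = l * a := by
      intro l hl
      have h1 : Cfsg.Agent.Lib.Helper25.AICSpec.Inv G ≤ centralizer ({a} : Set G) := by
        unfold Cfsg.Agent.Lib.Helper25.AICSpec.Inv
        rw [closure_le]
        intro t ht
        rw [SetLike.mem_coe, mem_centralizer_iff]
        intro y hy
        rw [Set.mem_singleton_iff] at hy
        rw [hy]
        exact (hinv t ht).symm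
      have h2 := h1 hl
      rw [mem_centralizer_iff] at h2
      exact h2 a rfl
    rw [mem_center_iff]
    intro g
    obtain ⟨l, hl, c, hc, rfl⟩ := loc.l5.gen g
    have h1 := hInv l hl
    have h2 : a * c = c * a := loc.l1.comm a c haC hc
    calc l * c * a = l * (a * c) := by rw [h2, mul_assoc]
      _ = a * l * c := by rw [← mul_assoc, ← h1]
      _ = a * (l * c) := by rw [mul_assoc]
  · intro x hx
    have hx' : x ∈ (S : Subgroup G) := hx
    have hmk : QuotientGroup.mk' N x ∈ T := by
      show QuotientGroup.mk' N x ∈ (T : Subgroup (G ⧸ N))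
      rw [hT]
      exact Subgroup.mem_map_of_mem _ hx'
    have h1 := hQ2 _ hmk
    rw [← map_pow, QuotientGroup.mk'_apply, QuotientGroup.eq_one_iff] at h1
    apply eq_one_of_two_pow_of_odd _ (hNoddE _ h1)
    obtain ⟨k, hk⟩ := S.isPGroup' ⟨x, hx'⟩
    refine ⟨k, ?_⟩
    have h2 := congrArg Subtype.val hk
    rw [Subgroup.coe_pow] at h2
    have h3 : x ^ 2 ^ k = 1 := h2
    rw [← pow_mul, mul_comm, pow_mul, h3, one_pow]
  · rw [← hcardSyl, hQ3, hcardT]

end Cfsg.Agent.Lib.Helper67.AICStepC
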