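import Mathlib
import Cfsg.Agent.Lib.Helper92.PGStmt

set_option linter.style.haveILetI false

/-! Piece QUOT of S2490 (helper92's split): the lattice form of simplicity gives a simple
quotient group. -/

namespace Cfsg.Agent.Lib.Helper67.PGQUOT

open Cfsg.Agent.Lib.Helper92.PGStmt

universe u

theorem main : Quot.{u} := by
  intro G _ _ H K _ hHK hne hmax
  have hcardH : Nat.card (H.subgroupOf K) = Nat.card H :=
    Nat.card_congr (Subgroup.subgroupOfEquivOfLe hHK).toEquiv
  have hcard : Nat.card (K ⧸ H.subgroupOf K) * Nat.card H = Nat.card K := by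
    rw [← hcardH]
    exact (Subgroup.card_eq_card_quotient_mul_card_subgroup (H.subgroupOf K)).symm
  refine ⟨?_, hcard⟩
  have hnt : Nontrivial (K ⧸ H.subgroupOf K) := by
    rw [← Finite.one_lt_card_iff_nontrivial]
    have h1 : (H.subgroupOf K).index ≠ 1 := by
      rw [Ne, Subgroup.index_eq_one, Subgroup.subgroupOf_eq_top]
      exact fun h => hne (le_antisymm hHK h)
    have h0 : (H.subgroupOf K).index ≠ 0 := Subgroup.index_ne_zero_of_finite
    have : (H.subgroupOf K).index = Nat.card (K ⧸ H.subgroupOf K) := rfl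
    omega
  refine { toNontrivial := hnt, eq_bot_or_eq_top_of_normal := ?_ }
  intro N hN
  set π := QuotientGroup.mk' (H.subgroupOf K) with hπ
  have hsurj : Function.Surjective π := QuotientGroup.mk'_surjective _
  set M' : Subgroup ↥K := N.comap π with hM'
  haveI hM'n : M'.Normal := hN.comap π
  have hNM : N = M'.map π := (Subgroup.map_comap_eq_self_of_surjective hsurj N).symm
  have hM'eq : M' = (M'.map K.subtype).subgroupOf K := by
    rw [Subgroup.subgroupOf, Subgroup.comap_map_eq_self_of_injective K.subtype_injective]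
  have h1 : H ≤ M'.map K.subtype := by
    intro h hh
    refine ⟨⟨h, hHK hh⟩, ?_, rfl⟩
    show π ⟨h, hHK hh⟩ ∈ N
    have h2 : π ⟨h, hHK hh⟩ = 1 := by
      rw [hπ, QuotientGroup.mk'_apply, QuotientGroup.eq_one_iff]
      exact hh
    rw [h2]; exact N.one_mem
  have h2 : M'.map K.subtype ≤ K := by
    rintro _ ⟨m, -, rfl⟩
    exact m.2
  have h3 : ∀ k ∈ K, ∀ m ∈ M'.map K.subtype, k * m * k⁻¹ ∈ M'.map K.subtype := by
    rintro k hk _ ⟨m, hm, rfl⟩
    exact ⟨⟨k, hk⟩ * m * ⟨k, hk⟩⁻¹, hM'n.conj_mem m hm ⟨k, hk⟩, rfl⟩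
  rcases hmax (M'.map K.subtype) h1 h2 h3 with h | h
  · left
    rw [h] at hM'eq
    rw [hNM, hM'eq, hπ, QuotientGroup.map_mk'_self]
  · right
    rw [h] at hM'eq
    rw [hNM, hM'eq, Subgroup.subgroupOf_self, Subgroup.map_top_of_surjective π hsurj]

end Cfsg.Agent.Lib.Helper67.PGQUOT
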