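import Cfsg.Agent.Lib.Helper85.PPStmt

/-!
S5113 piece MAX: a proper subgroup `T` of the finite `p`-group `S` lies in a normal subgroup of
index `p` of `S`.
-/

set_option autoImplicit false

namespace Cfsg.Agent.Lib.Helper67.PPMAX

open Cfsg Cfsg.FusionSystem Cfsg.Agent.Lib.Helper85.PPStmt

universe u

theorem main : MaxSub.{u} := by
  intro Ω _ S T _ p hp hS hTS hne
  obtain ⟨n, hn⟩ := IsPGroup.iff_card.mp hS
  have hT' : IsPGroup p (T.subgroupOf S) := hS.to_subgroup _
  obtain ⟨m, hm⟩ := IsPGroup.iff_card.mp hT'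
  have hp1 : 1 < p := hp.out.one_lt
  have hmn : m ≤ n := by
    have h := Subgroup.card_subgroup_dvd_card (T.subgroupOf S)
    rw [hm, hn] at h
    exact (Nat.pow_dvd_pow_iff_le_right hp1).mp h
  have hmn' : m ≠ n := by
    intro h
    apply hne
    have h1 : T.subgroupOf S = ⊤ := Subgroup.eq_top_of_card_eq _ (by rw [hm, hn, h])
    exact le_antisymm hTS (Subgroup.subgroupOf_eq_top.mp h1)
  have hn1 : 1 ≤ n := by omega
  have hdvd : p ^ (n - 1) ∣ Nat.card S := by
    rw [hn]; exact pow_dvd_pow p (by omega)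
  obtain ⟨K, hK, hTK⟩ := Sylow.exists_subgroup_card_pow_prime_le p hdvd (T.subgroupOf S) hm
    (by omega)
  have hpn : p ^ n = p * p ^ (n - 1) := by
    rw [← pow_succ']
    congr 1
    omega
  have hidx : K.index = p := by
    have h := Subgroup.card_mul_index K
    rw [hK, hn, hpn, mul_comm] at h
    exact Nat.eq_of_mul_eq_mul_right (pow_pos hp.out.pos _) h
  have hKn : K.Normal := by
    apply Subgroup.normal_of_index_eq_minFac_card
    rw [hidx, hn, Nat.Prime.pow_minFac hp.out (by omega)]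
  refine ⟨K.map S.subtype, ?_, ?_, ?_, ?_⟩
  · intro t ht
    refine Subgroup.mem_map.mpr ⟨⟨t, hTS ht⟩, hTK ?_, rfl⟩
    rw [Subgroup.mem_subgroupOf]
    exact ht
  · exact Subgroup.map_subtype_le K
  · intro s hs t ht
    obtain ⟨k, hk, rfl⟩ := Subgroup.mem_map.mp ht
    exact Subgroup.mem_map.mpr ⟨⟨s, hs⟩ * k * ⟨s, hs⟩⁻¹, hKn.conj_mem k hk ⟨s, hs⟩, rfl⟩
  · rw [Subgroup.card_map_of_injective (Subgroup.subtype_injective S), hK, hn, hpn]

end Cfsg.Agent.Lib.Helper67.PPMAX
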