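import Cfsg.Agent.Lib.Helper85.PPStmt

/-!
S5113 piece QUO: for a normal subgroup `T` of index `p` of `S`, the quotient map `S → S/T` has a
commutative target, kernel `T`, and every element outside the kernel generates the image.
-/

set_option autoImplicit false

namespace Cfsg.Agent.Lib.Helper67.PPQUO

open Cfsg Cfsg.FusionSystem Cfsg.Agent.Lib.Helper85.PPStmt

universe u

theorem main : QuoData.{u} := by
  intro Ω _ S T _ p hp _ hTS hnorm hcard
  have hN : (T.subgroupOf S).Normal := by
    constructor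
    intro n hn g
    rw [Subgroup.mem_subgroupOf] at hn ⊢
    exact hnorm g g.2 n hn
  have hcS : 0 < Nat.card S := Nat.card_pos
  have hcT : 0 < Nat.card T := by
    rcases Nat.eq_zero_or_pos (Nat.card T) with h | h
    · rw [h, mul_zero] at hcard; omega
    · exact h
  have hcA : Nat.card (S ⧸ T.subgroupOf S) = p := by
    rw [← Subgroup.index_eq_card]
    have h := Subgroup.card_mul_index (T.subgroupOf S)
    rw [Nat.card_congr (Subgroup.subgroupOfEquivOfLe hTS).toEquiv, hcard, mul_comm] at h
    exact Nat.eq_of_mul_eq_mul_right hcT h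
  have hfin : Finite (S ⧸ T.subgroupOf S) := Nat.finite_of_card_ne_zero (by
    rw [hcA]; exact hp.out.pos.ne')
  have hcyc : IsCyclic (S ⧸ T.subgroupOf S) := isCyclic_of_prime_card hcA
  refine ⟨S ⧸ T.subgroupOf S, inferInstance, QuotientGroup.mk' (T.subgroupOf S), ?_, ?_, ?_⟩
  · intro a b
    obtain ⟨g, hg⟩ := IsCyclic.exists_generator (α := S ⧸ T.subgroupOf S)
    obtain ⟨i, rfl⟩ := Subgroup.mem_zpowers_iff.mp (hg a)
    obtain ⟨j, rfl⟩ := Subgroup.mem_zpowers_iff.mp (hg b)
    rw [← zpow_add, ← zpow_add, add_comm]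
  · intro s
    rw [QuotientGroup.mk'_apply, QuotientGroup.eq_one_iff, Subgroup.mem_subgroupOf]
  · intro v s hv
    have htop := zpowers_eq_top_of_prime_card hcA hv
    have hmem : QuotientGroup.mk' (T.subgroupOf S) s ∈
        Subgroup.zpowers (QuotientGroup.mk' (T.subgroupOf S) v) := by
      rw [htop]; exact Subgroup.mem_top _
    obtain ⟨k, hk⟩ := (Submonoid.mem_powers_iff _ _).mp (mem_powers_iff_mem_zpowers.mpr hmem)
    exact ⟨k, hk.symm⟩

end Cfsg.Agent.Lib.Helper67.PPQUO
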