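import Cfsg.Agent.Lib.Helper85.PPStmt
import Cfsg.Agent.H85.ResAut
import Cfsg.Agent.Lib.Helper86.FSMore

/-!
S5113 piece SR: a Star map of `E ≤ F`, restricted to a subgroup `Q` of its source that is
invariant under all maps of `E` whose source contains `Q`, is an element of `O^p(Aut_F(Q))`.
-/

set_option autoImplicit false

namespace Cfsg.Agent.Lib.Helper67.PPSR

open Cfsg Cfsg.FusionSystem Cfsg.Agent.Lib.Helper85.PPStmt

universe u

theorem main : StarRes.{u} := by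
  intro Ω _ S U _ F E p hUS hEF Q hQU hstab M ψ hψ
  induction hψ with
  | @base R P hR β hβ hPR =>
    intro hQP
    have hQR : Q ≤ R := hQP.trans hPR
    have hst : ∀ a ∈ E.autGroup R, ∀ x : R, (x : Ω) ∈ Q → ((a x : R) : Ω) ∈ Q := by
      intro a ha x hx
      have h1 := (Cfsg.Agent.H85.mem_autGroup_iff E hR a).mp ha
      exact hstab R _ h1 hQR x hx
    refine ⟨Subgroup.inclusion (Cfsg.Agent.Lib.Helper86.FSMore.autGroup_mono E F hEF Q)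
      (Cfsg.Agent.H85.resAutHom E hR hQR hst β), ?_, ?_⟩
    · exact Cfsg.Agent.H85.pResidual_map_hom _ (Cfsg.Agent.H85.pResidual_map_hom _ hβ)
    · intro x hx
      rfl
  | @comp P Q' φ ψ₂ h hφ hψ₂ ih1 ih2 =>
    intro hQP
    obtain ⟨n₁, hn₁, h1⟩ := ih1 hQP
    have hQQ' : Q ≤ Q' := by
      intro y hy
      have e := h1 ((n₁ : MulAut Q)⁻¹ ⟨y, hy⟩) (hQP ((n₁ : MulAut Q)⁻¹ ⟨y, hy⟩).2)
      rw [MulAut.apply_inv_self] at e
      have e' : (y : Ω) = φ ⟨((n₁ : MulAut Q)⁻¹ ⟨y, hy⟩ : Q), hQP ((n₁ : MulAut Q)⁻¹ ⟨y, hy⟩).2⟩ :=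
        e.symm
      rw [e']
      exact h _
    obtain ⟨n₂, hn₂, h2⟩ := ih2 hQQ'
    refine ⟨n₂ * n₁, Subgroup.mul_mem _ hn₂ hn₁, ?_⟩
    intro x hx
    have e1 : (φ.codRestrict Q' h ⟨x, hx⟩ : Q') =
        ⟨(((n₁ : MulAut Q) x : Q) : Ω), hQQ' ((n₁ : MulAut Q) x).2⟩ := Subtype.ext (h1 x hx)
    rw [MonoidHom.comp_apply, e1]
    exact h2 ((n₁ : MulAut Q) x) (hQQ' ((n₁ : MulAut Q) x).2)

end Cfsg.Agent.Lib.Helper67.PPSR
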