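import Cfsg.Agent.Lib.Helper85.PPStmt

/-!
S5113 piece TR: transitivity of `p`-power index.
-/

set_option autoImplicit false

namespace Cfsg.Agent.Lib.Helper67.PPTR

open Cfsg Cfsg.FusionSystem Cfsg.Agent.Lib.Helper85.PPStmt

universe u

theorem main : PPITrans.{u} := by
  intro Ω _ S U T F F₁ E p hTU _ h1 h2 hhyp
  refine ⟨fun P φ hφ => h1.1 P (h2.1 P hφ), hhyp, ?_⟩
  intro P hPT
  rw [Subgroup.map_le_iff_le_comap]
  change Subgroup.closure {g : F.autGroup P | Nat.Coprime (orderOf g) p} ≤ _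
  rw [Subgroup.closure_le]
  intro α hα
  have hα' : Nat.Coprime (orderOf α) p := hα
  have hmem1 : (α : MulAut P) ∈ F₁.autGroup P :=
    h1.2.2 P (hPT.trans hTU) (Subgroup.mem_map.mpr ⟨α, Subgroup.subset_closure hα, rfl⟩)
  have hmem2 : (⟨(α : MulAut P), hmem1⟩ : F₁.autGroup P) ∈ pResidual p (F₁.autGroup P) := by
    apply Subgroup.subset_closure
    change Nat.Coprime (orderOf (⟨(α : MulAut P), hmem1⟩ : F₁.autGroup P)) p
    have e1 : orderOf (⟨(α : MulAut P), hmem1⟩ : F₁.autGroup P) = orderOf (α : MulAut P) :=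
      (Subgroup.orderOf_coe (⟨(α : MulAut P), hmem1⟩ : F₁.autGroup P)).symm
    rw [e1, Subgroup.orderOf_coe]
    exact hα'
  exact h2.2.2 P hPT (Subgroup.mem_map.mpr ⟨⟨(α : MulAut P), hmem1⟩, hmem2, rfl⟩)

end Cfsg.Agent.Lib.Helper67.PPTR
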