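import Mathlib
import Cfsg.Agent.H84.Psl3Stmt2

/-! Piece W1a of S5318 (helper84's split): the `2`-part of `|GL_2(F)|` for `|F| ≡ 1 (mod 4)`. -/

set_option autoImplicit false

namespace Cfsg.Agent.Lib.Helper67.Psl3W1a

open Matrix

universe u

/-- The `2`-part of `|GL_2(F)|` for `|F| ≡ 1 (mod 4)`. -/
theorem cardGL2 (F : Type u) [Field F] [Fintype F] (hq : Fintype.card F % 4 = 1) :
    (Nat.card (GL (Fin 2) F)).factorization 2
      = 2 * (Fintype.card F - 1).factorization 2 + 1 := by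
  have hf : ∀ x y : ℕ, x ≠ 0 → y ≠ 0 →
      (x * y).factorization 2 = x.factorization 2 + y.factorization 2 := by
    intro x y hx hy
    rw [Nat.factorization_mul hx hy]; rfl
  have h1 : Nat.card (GL (Fin 2) F)
      = (Fintype.card F ^ 2 - 1) * (Fintype.card F ^ 2 - Fintype.card F) := by
    rw [Matrix.card_GL_field, Fin.prod_univ_two]; simp
  have hq1 : 1 < Fintype.card F := Fintype.one_lt_card
  generalize Fintype.card F = q at hq h1 hq1 ⊢
  obtain ⟨t, ht⟩ : ∃ t, q = 4 * t + 1 := ⟨q / 4, by omega⟩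
  have ht0 : t ≠ 0 := by omega
  have ea : q - 1 = 4 * t := by omega
  have e1 : q ^ 2 - 1 = (q - 1) * (2 * (2 * t + 1)) := by
    rw [ea, ht]
    have h : (4 * t + 1) ^ 2 = 4 * t * (2 * (2 * t + 1)) + 1 := by ring
    rw [h, Nat.add_sub_cancel]
  have e2 : q ^ 2 - q = (q - 1) * q := by
    rw [Nat.sub_mul, one_mul, sq]
  have ha0 : q - 1 ≠ 0 := by omega
  have hq0 : q ≠ 0 := by omega
  have hb0 : 2 * t + 1 ≠ 0 := by omega
  have hfb : (2 * t + 1).factorization 2 = 0 :=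
    Nat.factorization_eq_zero_of_not_dvd (by omega)
  have hfq : q.factorization 2 = 0 := Nat.factorization_eq_zero_of_not_dvd (by omega)
  have hf2 : (2 : ℕ).factorization 2 = 1 := Nat.Prime.factorization_self Nat.prime_two
  rw [h1, e1, e2, hf _ _ (Nat.mul_ne_zero ha0 (Nat.mul_ne_zero (by norm_num) hb0))
    (Nat.mul_ne_zero ha0 hq0), hf _ _ ha0 (Nat.mul_ne_zero (by norm_num) hb0),
    hf _ _ (by norm_num) hb0, hf _ _ ha0 hq0, hfb, hfq, hf2]
  ring

/-- **Piece W1a of S5318.** -/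
theorem main : Cfsg.Agent.H84.Psl3Stmt.CardGL2.{u} := fun F _ _ hq => cardGL2 F hq

end Cfsg.Agent.Lib.Helper67.Psl3W1a
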