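import Mathlib
import Cfsg.Agent.H84.Psl3W1b

set_option autoImplicit false
set_option linter.style.haveILetI false

/-! Piece W2 of S5318 (helper84's split): given that all involutions of `PSL_3(F)` are conjugate,
a nontrivial subgroup of the monomial `2`-group `S0bar` closed under conjugation inside `S0bar`
is `S0bar` (`F` of odd order). -/

namespace Cfsg.Agent.Lib.Helper67.Psl3W2

open Matrix Cfsg.Agent.H84.PslDefs Cfsg.Agent.H84.Psl3Stmt Cfsg.Agent.H84.Psl3W1b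

universe u

section Basic

variable (F : Type u) [Field F]

/-- The cyclic permutation matrix of `SL_3(F)`. -/
def cyc : SpecialLinearGroup (Fin 3) F :=
  ⟨!![0, 1, 0; 0, 0, 1; 1, 0, 0], by simp [Matrix.det_fin_three]⟩

theorem cyc_val : ((cyc F : SpecialLinearGroup (Fin 3) F) : Matrix (Fin 3) (Fin 3) F)
    = !![0, 1, 0; 0, 0, 1; 1, 0, 0] := rfl

variable {F}

theorem cyc_mul_dg (a : Fˣ) : cyc F * dg a a⁻¹ = dg a⁻¹ 1 * cyc F := by
  apply Subtype.ext
  rw [Matrix.SpecialLinearGroup.coe_mul, Matrix.SpecialLinearGroup.coe_mul, cyc_val, dg_val',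
    dg_val']
  ext i j
  fin_cases i <;> fin_cases j <;> simp [Matrix.mul_apply, Fin.sum_univ_three]

theorem dg_mul_cyc (a : Fˣ) : dg a a⁻¹ * cyc F = cyc F * dg 1 a := by
  apply Subtype.ext
  rw [Matrix.SpecialLinearGroup.coe_mul, Matrix.SpecialLinearGroup.coe_mul, cyc_val, dg_val',
    dg_val']
  ext i j
  fin_cases i <;> fin_cases j <;> simp [Matrix.mul_apply, Fin.sum_univ_three]

end Basic

/-- piece W2 -/
theorem main : S0Closed.{u} := by
  intro F _ _ hq hconj T hT hTne hcl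
  classical
  haveI : Fact (Nat.Prime 2) := ⟨Nat.prime_two⟩
  obtain ⟨P⟩ : Nonempty (Sylow 2 Fˣ) := inferInstance
  have hcard := Cfsg.Agent.H84.Psl3W1b.main F hq
  -- an involution of `T`
  obtain ⟨t0, ht0T, ht0⟩ : ∃ t0 ∈ T, orderOf t0 = 2 := by
    have hdvd : Nat.card T ∣ Nat.card (S0bar F) := Subgroup.card_dvd_of_le hT
    rw [hcard] at hdvd
    obtain ⟨m, -, hm⟩ := (Nat.dvd_prime_pow Nat.prime_two).1 hdvd
    have hm0 : m ≠ 0 := by
      rintro rfl
      rw [pow_zero] at hm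
      exact hTne (Subgroup.eq_bot_of_card_eq T hm)
    have h2 : 2 ∣ Nat.card T := by
      rw [hm]; exact dvd_pow_self 2 hm0
    obtain ⟨x, hx⟩ := exists_prime_orderOf_dvd_card' (G := T) 2 h2
    exact ⟨x, x.2, by rw [Subgroup.orderOf_coe]; exact hx⟩
  have hinv : ∀ s ∈ S0bar F, orderOf s = 2 → s ∈ T := by
    intro s hs hs2
    obtain ⟨g, hg⟩ := hconj t0 s ht0 hs2
    have h := hcl t0 ht0T g (hg ▸ hs)
    rwa [hg] at h
  have hinv' : ∀ x ∈ S0 F, x * x = 1 → x ≠ 1 → proj 3 F x ∈ T := by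
    intro x hx hxx hx1
    apply hinv _ (Subgroup.mem_map_of_mem _ hx)
    rw [orderOf_eq_prime_iff]
    refine ⟨?_, ?_⟩
    · rw [← map_pow, pow_two, hxx, map_one]
    · intro h
      exact hx1 (proj_injOn P hx (S0 F).one_mem (h.trans (map_one _).symm))
  have hw0 : w0 F ∈ S0 F := Subgroup.subset_closure (Or.inr rfl)
  have hD : D P ≤ S0 F := by
    rw [S0_eq P]
    exact fun x hx => Subgroup.subset_closure (Or.inl hx)
  have hw0T : proj 3 F (w0 F) ∈ T := by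
    refine hinv' _ hw0 w0_mul_w0 ?_
    intro h
    exact dg_mul_w0_ne (F := F) 1 1 1 1 (by rw [dg_one, one_mul, h])
  -- the images of `diag(a, a⁻¹, 1)`
  have h1 : ∀ a : Fˣ, a ∈ (P : Subgroup Fˣ) → proj 3 F (dg a a⁻¹) ∈ T := by
    intro a ha
    have hmem : dg a a⁻¹ ∈ D P := (mem_D P _).2 ⟨a, a⁻¹, ha, inv_mem ha, rfl⟩
    have hx : dg a a⁻¹ * w0 F ∈ S0 F := (S0 F).mul_mem (hD hmem) hw0
    have hxx : (dg a a⁻¹ * w0 F) * (dg a a⁻¹ * w0 F) = 1 := by
      have e : (dg a a⁻¹ * w0 F) * (dg a a⁻¹ * w0 F) = dg a a⁻¹ * (w0 F * dg a a⁻¹ * w0 F) := by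
        simp only [mul_assoc]
      rw [e, w0_conj, dg_mul, mul_inv_cancel, inv_mul_cancel, dg_one]
    have hx1 : dg a a⁻¹ * w0 F ≠ 1 := by
      intro h
      exact dg_mul_w0_ne (F := F) a a⁻¹ 1 1 (by rw [dg_one, h])
    have h := hinv' _ hx hxx hx1
    have e : proj 3 F (dg a a⁻¹) = proj 3 F (dg a a⁻¹ * w0 F) * proj 3 F (w0 F) := by
      rw [← map_mul, mul_assoc, w0_mul_w0, mul_one]
    rw [e]
    exact T.mul_mem h hw0T
  -- the images of `diag(a, 1, a⁻¹)`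
  have h2 : ∀ a : Fˣ, a ∈ (P : Subgroup Fˣ) → proj 3 F (dg a 1) ∈ T := by
    intro a ha
    have ha' : a⁻¹ ∈ (P : Subgroup Fˣ) := inv_mem ha
    have e : proj 3 F (cyc F) * proj 3 F (dg a⁻¹ a⁻¹⁻¹) * (proj 3 F (cyc F))⁻¹
        = proj 3 F (dg a 1) := by
      rw [← map_mul, cyc_mul_dg, map_mul, mul_inv_cancel_right, inv_inv]
    have hmem : proj 3 F (dg a 1) ∈ S0bar F :=
      Subgroup.mem_map_of_mem _ (hD ((mem_D P _).2 ⟨a, 1, ha, one_mem _, rfl⟩))
    have h := hcl _ (h1 a⁻¹ ha') (proj 3 F (cyc F)) (by rw [e]; exact hmem)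
    rwa [e] at h
  -- the images of `diag(1, a, a⁻¹)`
  have h3 : ∀ a : Fˣ, a ∈ (P : Subgroup Fˣ) → proj 3 F (dg 1 a) ∈ T := by
    intro a ha
    have e : (proj 3 F (cyc F))⁻¹ * proj 3 F (dg a a⁻¹) * (proj 3 F (cyc F))⁻¹⁻¹
        = proj 3 F (dg 1 a) := by
      rw [inv_inv, mul_assoc, ← map_mul, dg_mul_cyc, map_mul, inv_mul_cancel_left]
    have hmem : proj 3 F (dg 1 a) ∈ S0bar F :=
      Subgroup.mem_map_of_mem _ (hD ((mem_D P _).2 ⟨1, a, one_mem _, ha, rfl⟩))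
    have h := hcl _ (h1 a ha) (proj 3 F (cyc F))⁻¹ (by rw [e]; exact hmem)
    rwa [e] at h
  refine le_antisymm hT ?_
  rw [S0bar, Subgroup.map_le_iff_le_comap, S0_eq P, Subgroup.closure_le]
  rintro x (hx | hx)
  · obtain ⟨a, b, ha, hb, rfl⟩ := (mem_D P x).1 hx
    show proj 3 F (dg a b) ∈ T
    have e : dg a b = (dg a 1 * dg 1 b : SpecialLinearGroup (Fin 3) F) := by
      rw [dg_mul, mul_one, one_mul]
    rw [e, map_mul]
    exact T.mul_mem (h2 a ha) (h3 b hb)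
  · rw [Set.mem_singleton_iff] at hx
    subst hx
    exact hw0T

end Cfsg.Agent.Lib.Helper67.Psl3W2
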