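import Cfsg.Agent.Lib.Helper18.R59Stmt2

/-!
S2359 piece NO3: with TI Sylow 3-subgroups whose normaliser lies in `B`, and `B` without elements
of order `p`, an element of prime order `p` commutes with no non-trivial 3-element.
-/

set_option autoImplicit false

namespace Cfsg.Agent.Lib.Helper67.R59NO3

universe u

open Cfsg.Agent.Lib.Helper18.R59Stmt2

theorem main : NO3.{u} := by
  intro G _ _ P₀ B p hp hTI hN hB a ha x hxa hx3
  obtain ⟨k, hk⟩ := hx3
  by_contra hx1
  have hP : IsPGroup 3 (Subgroup.zpowers x) := by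
    intro y
    refine ⟨k, ?_⟩
    obtain ⟨y, hy⟩ := y
    obtain ⟨n, rfl⟩ := Subgroup.mem_zpowers_iff.mp hy
    apply Subtype.ext
    simp only [Subgroup.coe_pow, Subgroup.coe_one]
    rw [← zpow_natCast, ← zpow_mul, mul_comm, zpow_mul, zpow_natCast, hk, one_zpow]
  obtain ⟨Q, hQ⟩ := hP.exists_le_sylow
  have hxQ : x ∈ (Q : Subgroup G) := hQ (Subgroup.mem_zpowers x)
  have haQ : a • Q = Q := by
    by_contra hne
    have h := hTI (a • Q) Q hne
    have hx : x ∈ ((a • Q : Sylow 3 G) : Subgroup G) ⊓ (Q : Subgroup G) := by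
      refine Subgroup.mem_inf.mpr ⟨?_, hxQ⟩
      rw [Sylow.coe_subgroup_smul, Subgroup.mem_pointwise_smul_iff_inv_smul_mem]
      have e : (MulAut.conj a)⁻¹ • x = x := by
        rw [MulAut.smul_def, ← map_inv, MulAut.conj_apply, inv_inv, mul_assoc, hxa,
          inv_mul_cancel_left]
      rw [e]; exact hxQ
    rw [h] at hx
    exact hx1 (Subgroup.mem_bot.mp hx)
  obtain ⟨g, hg⟩ := MulAction.exists_smul_eq G P₀ Q
  have hb : (g⁻¹ * a * g) • P₀ = P₀ := by
    rw [mul_smul, mul_smul, hg, haQ, ← hg, inv_smul_smul]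
  have hbn := Sylow.smul_eq_iff_mem_normalizer.mp hb
  have hbB : g⁻¹ * a * g ∈ B := by
    apply hN
    intro u hu
    exact (Subgroup.mem_normalizer_iff.mp hbn u).mp hu
  have hap : a ^ p = 1 := by rw [← ha]; exact pow_orderOf_eq_one a
  have hbp : (g⁻¹ * a * g) ^ p = 1 := by
    have e := conj_pow (a := g⁻¹) (b := a) (i := p)
    rw [inv_inv] at e
    rw [e, hap, mul_one, inv_mul_cancel]
  have hb1 : g⁻¹ * a * g = 1 := hB _ hbB hbp
  have ha1 : a = 1 := by
    have e : g * (g⁻¹ * a * g) * g⁻¹ = a := by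
      simp only [mul_assoc, mul_inv_cancel, mul_one, mul_inv_cancel_left]
    rw [← e, hb1, mul_one, mul_inv_cancel]
  rw [ha1, orderOf_one] at ha
  exact hp.one_lt.ne ha

end Cfsg.Agent.Lib.Helper67.R59NO3
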