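import Mathlib
import Cfsg.Agent.Lib.Helper36.ReeSolvStmt

/-!
# S2361 / ARI: a prime `p > 3` dividing `q³(q-1)(q³+1)` divides one of the four toral orders
-/

set_option autoImplicit false

namespace Cfsg.Agent.Lib.Helper67.RSARI

open Cfsg.Agent.Lib.Helper42.ReeSpStmt Cfsg.Agent.Lib.Helper36.ReeSolvStmt

theorem qq_mod8 (m : ℕ) : qq m % 8 = 3 := by
  unfold qq
  rw [pow_succ, pow_mul, Nat.mul_mod, Nat.pow_mod]
  norm_num

theorem rr_sq (m : ℕ) : rr m * rr m = 3 * qq m := by
  unfold rr qq
  ring

theorem rr_le_qq (m : ℕ) : rr m ≤ qq m := by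
  unfold rr qq
  exact Nat.pow_le_pow_right (by norm_num) (by omega)

theorem main : Ari := by
  intro m p hp hp3 hdvd
  have hq8 := qq_mod8 m
  have hr2 := rr_sq m
  obtain ⟨d, hd⟩ := Nat.exists_eq_add_of_le (rr_le_qq m)
  -- `q³ + 1 = (q + 1) (q - r + 1) (q + r + 1)`
  have hfac : qq m ^ 3 + 1 = (qq m + 1) * ((qq m - rr m + 1) * (qq m + rr m + 1)) := by
    have h1 : qq m - rr m = d := by omega
    rw [h1, hd]
    rw [hd] at hr2
    have h2 : (rr m + d) ^ 3 + 1 + (rr m + d + 1) * (3 * (rr m + d)) =
        (rr m + d + 1) * ((d + 1) * (rr m + d + rr m + 1)) + (rr m + d + 1) * (rr m * rr m) := by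
      ring
    rw [hr2] at h2
    exact Nat.add_right_cancel h2
  have hp2 : ¬ p ∣ 2 := by
    intro h
    have := Nat.le_of_dvd (by norm_num) h
    omega
  rcases (Nat.Prime.dvd_mul hp).mp hdvd with h | h
  · rcases (Nat.Prime.dvd_mul hp).mp h with h | h
    · exfalso
      have h1 : p ∣ qq m := hp.dvd_of_dvd_pow h
      have h2 : p ∣ 3 := by
        unfold qq at h1
        exact hp.dvd_of_dvd_pow h1
      have := Nat.le_of_dvd (by norm_num) h2
      omega
    · left
      have h1 : qq m - 1 = 2 * ((qq m - 1) / 2) := by omega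
      rw [h1] at h
      rcases (Nat.Prime.dvd_mul hp).mp h with h | h
      · exact absurd h hp2
      · exact h
  · rw [hfac] at h
    rcases (Nat.Prime.dvd_mul hp).mp h with h | h
    · right
      left
      have h1 : qq m + 1 = 2 * (2 * ((qq m + 1) / 4)) := by omega
      rw [h1] at h
      rcases (Nat.Prime.dvd_mul hp).mp h with h | h
      · exact absurd h hp2
      · rcases (Nat.Prime.dvd_mul hp).mp h with h | h
        · exact absurd h hp2
        · exact h
    · rcases (Nat.Prime.dvd_mul hp).mp h with h | h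
      · right
        right
        left
        exact h
      · right
        right
        right
        exact h

end Cfsg.Agent.Lib.Helper67.RSARI
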