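import Mathlib
import Cfsg.Agent.Lib.Helper36.ReeSolvStmt

/-!
# S2361 / FOUR: an element of order 3 normalizing a four-group `V` normalizes a Sylow 2-subgroup
containing `V`
-/

set_option autoImplicit false
universe u

namespace Cfsg.Agent.Lib.Helper67.RSFOUR

open Cfsg.Agent.Lib.Helper42.ReeSpStmt Cfsg.Agent.Lib.Helper36.ReeSolvStmt

theorem mem_smul_sylow {G : Type*} [Group G] {p : ℕ} (P : Sylow p G) (g x : G) :
    x ∈ ((g • P : Sylow p G) : Subgroup G) ↔ g⁻¹ * x * g ∈ (P : Subgroup G) := by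
  rw [Sylow.coe_subgroup_smul, Subgroup.mem_pointwise_smul_iff_inv_smul_mem, MulAut.smul_def,
    MulAut.conj_inv_apply]

/-- in a finite group of order not divisible by 9 the subgroups of order 3 are conjugate -/
theorem conj_order3 (X : Type*) [Group X] [Finite X] (h9 : ¬ 9 ∣ Nat.card X) (c y : X)
    (hc : orderOf c = 3) (hy : orderOf y = 3) : ∃ x : X, ∃ j : ℕ, c = x * y ^ j * x⁻¹ := by
  haveI : Fact (Nat.Prime 3) := ⟨Nat.prime_three⟩
  have hpc : IsPGroup 3 (Subgroup.zpowers c) :=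
    IsPGroup.of_card (n := 1) (by rw [Nat.card_zpowers, hc, pow_one])
  have hpy : IsPGroup 3 (Subgroup.zpowers y) :=
    IsPGroup.of_card (n := 1) (by rw [Nat.card_zpowers, hy, pow_one])
  obtain ⟨Q', hQ'⟩ := hpc.exists_le_sylow
  obtain ⟨Q, hQ⟩ := hpy.exists_le_sylow
  obtain ⟨g, hg⟩ := MulAction.exists_smul_eq X Q Q'
  have hQ'card : Nat.card (Q' : Subgroup X) = 3 := by
    obtain ⟨k, hk⟩ := (Q'.isPGroup').exists_card_eq
    have hdvd : 3 ^ k ∣ Nat.card X := hk ▸ Subgroup.card_subgroup_dvd_card _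
    have hk1 : k ≤ 1 := by
      by_contra hlt
      rw [not_le] at hlt
      exact h9 ((pow_dvd_pow 3 hlt).trans hdvd)
    have h3 : 3 ≤ Nat.card (Q' : Subgroup X) := by
      have h4 := Subgroup.card_le_of_le hQ'
      rw [Nat.card_zpowers, hc] at h4
      exact h4
    rw [hk] at h3 ⊢
    interval_cases k
    · norm_num at h3
    · norm_num
  have hmem : g * y * g⁻¹ ∈ (Q' : Subgroup X) := by
    rw [← hg, mem_smul_sylow]
    have h1 : g⁻¹ * (g * y * g⁻¹) * g = y := by group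
    rw [h1]
    exact hQ (Subgroup.mem_zpowers y)
  have hord : orderOf (g * y * g⁻¹) = 3 := by
    rw [← hy]
    exact (MulAut.conj g).orderOf_eq y
  have hzp : Subgroup.zpowers (g * y * g⁻¹) = (Q' : Subgroup X) := by
    apply Subgroup.eq_of_le_of_card_ge
    · rw [Subgroup.zpowers_le]
      exact hmem
    · rw [hQ'card, Nat.card_zpowers, hord]
  have hcmem : c ∈ Subgroup.zpowers (g * y * g⁻¹) := by
    rw [hzp]
    exact hQ' (Subgroup.mem_zpowers c)
  rw [← mem_powers_iff_mem_zpowers] at hcmem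
  obtain ⟨j, hj⟩ := (Submonoid.mem_powers_iff _ _).mp hcmem
  exact ⟨g, j, by rw [← hj, conj_pow]⟩

theorem main : FourP.{u} := by
  intro G _ _ syl2 n2 hW7 hN3V V c hV hc hcV
  haveI : Fact (Nat.Prime 2) := ⟨Nat.prime_two⟩
  have hVp : IsPGroup 2 ↥V := IsPGroup.of_card (n := 2) (by rw [hV]; norm_num)
  obtain ⟨P0, hVP0⟩ := hVp.exists_le_sylow
  obtain ⟨y, hy3, hyP0, hyV⟩ := hW7 (P0 : Subgroup G) (syl2 P0).1 (syl2 P0).2 (n2 P0).1 (n2 P0).2
    V hVP0 hV
  -- conjugacy inside `N(V)`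
  obtain ⟨x, j, hx⟩ := conj_order3 ↥(Subgroup.normalizer (V : Set G)) (hN3V V hV) ⟨c, hcV⟩ ⟨y, hyV⟩
    (by rw [Subgroup.orderOf_mk]; exact hc) (by rw [Subgroup.orderOf_mk]; exact hy3)
  have hx' : c = (x : G) * y ^ j * (x : G)⁻¹ := congrArg Subtype.val hx
  have hxV := Subgroup.mem_normalizer_iff.mp x.2
  refine ⟨(x : G) • P0, ?_, ?_⟩
  · intro v hv
    rw [mem_smul_sylow]
    apply hVP0
    rw [hxV]
    have h1 : (x : G) * ((x : G)⁻¹ * v * (x : G)) * (x : G)⁻¹ = v := by group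
    rw [h1]
    exact hv
  · have hyj : y ^ j ∈ Subgroup.normalizer ((P0 : Subgroup G) : Set G) := Subgroup.pow_mem _ hyP0 j
    have hyj' := Subgroup.mem_normalizer_iff.mp hyj
    rw [Subgroup.mem_normalizer_iff]
    intro g
    rw [mem_smul_sylow, mem_smul_sylow, hyj' ((x : G)⁻¹ * g * (x : G)), hx']
    have h1 : (x : G)⁻¹ * ((x : G) * y ^ j * (x : G)⁻¹ * g * ((x : G) * y ^ j * (x : G)⁻¹)⁻¹) * (x : G)
        = y ^ j * ((x : G)⁻¹ * g * (x : G)) * (y ^ j)⁻¹ := by group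
    rw [h1]

end Cfsg.Agent.Lib.Helper67.RSFOUR
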