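import Mathlib
import Cfsg.Agent.Lib.Helper36.ReeSolvStmt

/-!
# S2361 / N3: no Sylow 3-normalizer has order divisible by 4
-/

set_option autoImplicit false
universe u

namespace Cfsg.Agent.Lib.Helper67.RSN3

open Cfsg.Agent.Lib.Helper42.ReeSpStmt Cfsg.Agent.Lib.Helper36.ReeSolvStmt

theorem qq_mod4 (m : ℕ) : qq m % 4 = 3 := by
  unfold qq
  rw [pow_succ, pow_mul, Nat.mul_mod, Nat.pow_mod]
  norm_num

theorem qq_mod3 (m : ℕ) : qq m % 3 = 0 := by
  unfold qq
  rw [pow_succ]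
  exact Nat.mul_mod_left _ _

theorem three_le_qq (m : ℕ) : 3 ≤ qq m := by
  unfold qq
  calc 3 = 3 ^ 1 := rfl
    _ ≤ 3 ^ (2 * m + 1) := Nat.pow_le_pow_right (by norm_num) (by omega)

theorem main : N3P.{u} := by
  intro G _ _ m hcard hU P h4
  obtain ⟨U, hUcard, hNU⟩ := hU
  haveI : Fact (Nat.Prime 3) := ⟨Nat.prime_three⟩
  have hq4 := qq_mod4 m
  have hq3 := qq_mod3 m
  have hq := three_le_qq m
  -- `U` is a Sylow 3-subgroup
  have hUp : IsPGroup 3 ↥U := by
    apply IsPGroup.of_card (n := 3 * (2 * m + 1))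
    rw [hUcard]
    unfold qq
    rw [← pow_mul, mul_comm]
  have hidx : U.index = (qq m - 1) * (qq m ^ 3 + 1) := by
    have h1 := Subgroup.card_mul_index U
    rw [hUcard, hcard, mul_assoc] at h1
    exact Nat.eq_of_mul_eq_mul_left (by positivity) h1
  have h3 : ¬ 3 ∣ U.index := by
    rw [hidx, Nat.dvd_iff_mod_eq_zero, Nat.mul_mod]
    have h5 : (qq m - 1) % 3 = 2 := by omega
    have h6 : (qq m ^ 3 + 1) % 3 = 1 := by
      rw [Nat.add_mod, Nat.pow_mod, hq3]
    rw [h5, h6]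
    norm_num
  obtain ⟨Q, hQ⟩ : ∃ Q : Sylow 3 G, (Q : Subgroup G) = U := ⟨hUp.toSylow h3, rfl⟩
  have e1 : Nat.card (Sylow 3 G) = (Subgroup.normalizer ((P : Subgroup G) : Set G)).index :=
    P.card_eq_index_normalizer
  have e2 : Nat.card (Sylow 3 G) = (Subgroup.normalizer ((Q : Subgroup G) : Set G)).index :=
    Q.card_eq_index_normalizer
  have e3 := Subgroup.card_mul_index (Subgroup.normalizer ((P : Subgroup G) : Set G))
  have e4 := Subgroup.card_mul_index (Subgroup.normalizer ((Q : Subgroup G) : Set G))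
  rw [← e1] at e3
  rw [← e2, hQ, hNU] at e4
  have hne : Nat.card (Sylow 3 G) ≠ 0 := Nat.card_pos.ne'
  have hNP : Nat.card ↥(Subgroup.normalizer ((P : Subgroup G) : Set G)) = qq m ^ 3 * (qq m - 1) :=
    Nat.eq_of_mul_eq_mul_right (Nat.pos_of_ne_zero hne) (e3.trans e4.symm)
  rw [hNP, Nat.dvd_iff_mod_eq_zero, Nat.mul_mod, Nat.pow_mod, hq4] at h4
  have h7 : (qq m - 1) % 4 = 2 := by omega
  rw [h7] at h4
  norm_num at h4

end Cfsg.Agent.Lib.Helper67.RSN3
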