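import Mathlib
import Cfsg.Agent.Lib.Helper67.BaerSuzuki
import Cfsg.Agent.Lib.Helper67.SylowLift

/-!
A finite group without nontrivial real elements of odd order has a normal Sylow 2-subgroup.
-/

set_option autoImplicit false

namespace Cfsg.Agent.Lib.Helper67.RealOdd

open Subgroup
open Cfsg.Agent.Lib.Helper67

theorem closure_normal_of_conj_invariant {G : Type*} [Group G] (K : Set G)
    (hK : ∀ g x, x ∈ K → g * x * g⁻¹ ∈ K) : (closure K).Normal := by
  constructor
  intro n hn g
  induction hn using closure_induction with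
  | mem w hw => exact Subgroup.subset_closure (hK g w hw)
  | one => simp
  | mul a b _ _ iha ihb =>
    have : g * (a * b) * g⁻¹ = (g * a * g⁻¹) * (g * b * g⁻¹) := by group
    rw [this]
    exact mul_mem iha ihb
  | inv a _ iha =>
    have : g * a⁻¹ * g⁻¹ = (g * a * g⁻¹)⁻¹ := by group
    rw [this]
    exact inv_mem iha

theorem conj_pow_eq {G : Type*} [Group G] (t x : G) (n : ℕ) :
    t * x ^ n * t⁻¹ = (t * x * t⁻¹) ^ n := by
  have h1 : t * x ^ n * t⁻¹ = MulAut.conj t (x ^ n) := by simp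
  have h2 : t * x * t⁻¹ = MulAut.conj t x := by simp
  rw [h1, h2, map_pow]

theorem isPGroup_two_closure_pair {G : Type*} [Group G] [Finite G] (s t : G)
    (hs : orderOf s = 2) (ht : orderOf t = 2) (k : ℕ) (hst : orderOf (s * t) = 2 ^ k) :
    IsPGroup 2 (closure ({s, t} : Set G)) := by
  have hs2 : s ^ 2 = 1 := by rw [← hs]; exact pow_orderOf_eq_one s
  have ht2 : t ^ 2 = 1 := by rw [← ht]; exact pow_orderOf_eq_one t
  have hsinv : s⁻¹ = s := by
    rw [inv_eq_iff_mul_eq_one, ← sq]; exact hs2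
  have htinv : t⁻¹ = t := by
    rw [inv_eq_iff_mul_eq_one, ← sq]; exact ht2
  have htx : t * (s * t) * t⁻¹ = (s * t)⁻¹ := by
    rw [mul_inv_rev, hsinv, htinv]
    rw [mul_assoc, mul_assoc, ← sq, ht2, mul_one]
  have hnorm : zpowers t ≤ normalizer ((zpowers (s * t) : Subgroup G) : Set G) := by
    rw [zpowers_le]
    apply mem_normalizer_fintype
    intro n hn
    obtain ⟨i, rfl⟩ := mem_zpowers_iff.mp hn
    have h1 : t * (s * t) ^ i * t⁻¹ = MulAut.conj t ((s * t) ^ i) := by simp
    rw [h1, map_zpow]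
    have h2 : MulAut.conj t (s * t) = (s * t)⁻¹ := by simpa using htx
    rw [h2]
    exact zpow_mem (inv_mem (mem_zpowers _)) i
  have hc1 : Nat.card (zpowers t) = 2 ^ 1 := by rw [Nat.card_zpowers, ht, pow_one]
  have hc2 : Nat.card (zpowers (s * t)) = 2 ^ k := by rw [Nat.card_zpowers, hst]
  have h1 : IsPGroup 2 (zpowers t) := IsPGroup.of_card hc1
  have h2 : IsPGroup 2 (zpowers (s * t)) := IsPGroup.of_card hc2
  have h3 : IsPGroup 2 (zpowers t ⊔ zpowers (s * t) : Subgroup G) :=
    IsPGroup.to_sup_of_normal_right' h1 h2 hnorm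
  refine h3.to_le ?_
  have hst' : s * t ∈ (zpowers t ⊔ zpowers (s * t) : Subgroup G) :=
    (le_sup_right : zpowers (s * t) ≤ zpowers t ⊔ zpowers (s * t)) (mem_zpowers _)
  have ht' : t ∈ (zpowers t ⊔ zpowers (s * t) : Subgroup G) :=
    (le_sup_left : zpowers t ≤ zpowers t ⊔ zpowers (s * t)) (mem_zpowers _)
  have hs' : s ∈ (zpowers t ⊔ zpowers (s * t) : Subgroup G) := by
    have := mul_mem hst' (inv_mem ht')
    simpa using this
  rw [closure_le]
  rintro w (rfl | rfl)
  · exact hs'
  · exact ht'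

/-- A finite group in which no nontrivial element of odd order is inverted by conjugation has
a normal Sylow 2-subgroup. -/
theorem sylow_two_normal {G : Type*} [Group G] [Finite G]
    (h : ∀ y g : G, Odd (orderOf y) → g * y * g⁻¹ = y⁻¹ → y = 1) (P : Sylow 2 G) :
    (P : Subgroup G).Normal := by
  set N : Subgroup G := (P : Subgroup G).normalCore with hNdef
  have hNP : N ≤ P := normalCore_le _
  have hN2 : IsPGroup 2 N := P.isPGroup'.to_le hNP
  have hNn : N.Normal := normalCore_normal _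
  obtain ⟨a, ha⟩ := IsPGroup.iff_card.mp hN2
  let K : Set (G ⧸ N) := {t | orderOf t = 2}
  have hK : ∀ g x, x ∈ K → g * x * g⁻¹ ∈ K := by
    intro g x hx
    show orderOf (g * x * g⁻¹) = 2
    have : g * x * g⁻¹ = MulAut.conj g x := by simp
    rw [this, MulEquiv.orderOf_eq]
    exact hx
  have hpair : ∀ s ∈ K, ∀ t ∈ K, IsPGroup 2 (closure ({s, t} : Set (G ⧸ N))) := by
    intro s hs t ht
    have hs' : orderOf s = 2 := hs
    have ht' : orderOf t = 2 := ht
    have hx : ∃ k, orderOf (s * t) = 2 ^ k := by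
      rcases Nat.eq_two_pow_or_exists_odd_prime_and_dvd (orderOf (s * t)) with
        h1 | ⟨q, hq, hqd, hqodd⟩
      · exact h1
      · exfalso
        have hs2 : s ^ 2 = 1 := by rw [← hs']; exact pow_orderOf_eq_one s
        have ht2 : t ^ 2 = 1 := by rw [← ht']; exact pow_orderOf_eq_one t
        have hsinv : s⁻¹ = s := by
          rw [inv_eq_iff_mul_eq_one, ← sq]; exact hs2
        have htinv : t⁻¹ = t := by
          rw [inv_eq_iff_mul_eq_one, ← sq]; exact ht2
        have htx : t * (s * t) * t⁻¹ = (s * t)⁻¹ := by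
          rw [mul_inv_rev, hsinv, htinv]
          rw [mul_assoc, mul_assoc, ← sq, ht2, mul_one]
        have hxpos : orderOf (s * t) ≠ 0 := (orderOf_pos (s * t)).ne'
        set u := (s * t) ^ (orderOf (s * t) / q) with hudef
        have hu : orderOf u = q := orderOf_pow_orderOf_div hxpos hqd
        have htu : t * u * t⁻¹ = u⁻¹ := by
          rw [hudef, conj_pow_eq, htx, inv_pow]
        obtain ⟨y, k, m, hy, hym, hqm⟩ := SylowLift.exists_pElement_lift N hq u
        obtain ⟨g, rfl⟩ := QuotientGroup.mk_surjective t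
        have : Fact q.Prime := ⟨hq⟩
        have hqN : ¬ q ∣ Nat.card N := by
          rw [ha]
          intro hdvd
          have h2 := (Nat.prime_dvd_prime_iff_eq hq Nat.prime_two).mp (hq.dvd_of_dvd_pow hdvd)
          rw [h2] at hqodd
          exact (by decide : ¬ Odd 2) hqodd
        have hz : y⁻¹ ∈ zpowers y := inv_mem (mem_zpowers y)
        have hg : ((g * y * g⁻¹ : G) : G ⧸ N) = ((y⁻¹ : G) : G ⧸ N) := by
          rw [QuotientGroup.mk_mul, QuotientGroup.mk_mul, QuotientGroup.mk_inv,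
            QuotientGroup.mk_inv, hym, conj_pow_eq, htu, inv_pow]
        obtain ⟨g', hg'⟩ := SylowLift.exists_conj_eq_of_quotient N hqN y k hy g y⁻¹ hz hg
        have hy1 : y = 1 := h y g' (by rw [hy]; exact hqodd.pow) hg'
        have hum : u ^ m = 1 := by rw [← hym, hy1]; rfl
        exact hqm (hu ▸ orderOf_dvd_of_pow_eq_one hum)
    obtain ⟨k, hk⟩ := hx
    exact isPGroup_two_closure_pair s t hs' ht' k hk
  have hM2 : IsPGroup 2 (closure K) := BaerSuzuki.isPGroup_closure K hK hpair
  have hMn : (closure K).Normal := closure_normal_of_conj_invariant K hK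
  set M : Subgroup G := (closure K).comap (QuotientGroup.mk' N) with hMdef
  have hMp : IsPGroup 2 M :=
    hM2.comap_of_ker_isPGroup (QuotientGroup.mk' N) (by rw [QuotientGroup.ker_mk']; exact hN2)
  have : M.Normal := hMn.comap _
  have hMP : M ≤ P := hMp.le_sylow_of_normal P
  have hMN : M ≤ N := (normal_le_normalCore).mpr hMP
  have hnoinv : ∀ t : G ⧸ N, orderOf t ≠ 2 := by
    intro t ht
    obtain ⟨g, rfl⟩ := QuotientGroup.mk_surjective t
    have h1 : g ∈ M := Subgroup.subset_closure (show (g : G ⧸ N) ∈ K from ht)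
    have h2 : g ∈ N := hMN h1
    have h3 : (g : G ⧸ N) = 1 := (QuotientGroup.eq_one_iff g).mpr h2
    rw [h3] at ht
    simp at ht
  have hodd : ¬ 2 ∣ Nat.card (G ⧸ N) := by
    intro h2
    obtain ⟨t, ht⟩ := exists_prime_orderOf_dvd_card' 2 h2
    exact hnoinv t ht
  have hPN : (P : Subgroup G) ≤ N := by
    intro g hg
    rw [← QuotientGroup.eq_one_iff, ← orderOf_eq_one_iff]
    obtain ⟨k, hk⟩ := P.isPGroup' ⟨g, hg⟩
    have hk' : g ^ 2 ^ k = 1 := by
      have := congrArg Subtype.val hk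
      simpa using this
    have h1 : orderOf (g : G ⧸ N) ∣ 2 ^ k :=
      orderOf_dvd_of_pow_eq_one (by rw [← QuotientGroup.mk_pow, hk']; rfl)
    have h2 : orderOf (g : G ⧸ N) ∣ Nat.card (G ⧸ N) := orderOf_dvd_natCard _
    have hcop : Nat.Coprime (2 ^ k) (Nat.card (G ⧸ N)) :=
      Nat.Coprime.pow_left _ ((Nat.Prime.coprime_iff_not_dvd Nat.prime_two).mpr hodd)
    exact Nat.eq_one_of_dvd_coprimes hcop h1 h2
  have hPeq : (P : Subgroup G) = N := le_antisymm hPN hNP
  rw [hPeq]
  exact hNn

end Cfsg.Agent.Lib.Helper67.RealOdd
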