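import Mathlib
import Cfsg.Agent.Lib.Helper18.ReeOutStmt

/-!
# S2127 (helper67): small toolkit for the parametrized pieces TRIVH / TRIVZ / TRIVA / TRIVT
-/

set_option autoImplicit false

namespace Cfsg.Agent.Lib.Helper67.ReeOutTools

open Cfsg.Agent.Lib.Helper18.ReeOutStmt

universe u v

variable {G : Type u} [Group G] {K : Type v} [Field K] [Fintype K] {m : ℕ} {φ : K →+* K}
  {x : K → K → K → G} {e : K → G}

theorem mulA (hp : OPar G K m φ x e) (t u' v' u v : K) :
    x t u' v' * x 0 u v = x t (u' + u) (v' + v) := by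
  rw [hp.x_mul]
  congr 1 <;> simp

theorem Amul (hp : OPar G K m φ x e) (u v t u' v' : K) :
    x 0 u v * x t u' v' = x t (u + u') (v + v' - u * t) := by
  rw [hp.x_mul]
  congr 1 <;> simp

theorem x_one (hp : OPar G K m φ x e) : x 0 0 0 = 1 := by
  have h := mulA hp 0 0 0 0 0
  simp only [add_zero] at h
  exact mul_eq_left.mp h

theorem cube (hp : OPar G K m φ x e) (t u v : K) :
    x t u v * x t u v * x t u v = x 0 0 (-(t ^ 2 * φ t ^ 3)) := by
  rw [hp.x_mul, hp.x_mul]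
  have h3 := hp.char3
  congr 1
  · linear_combination t * h3
  · linear_combination (u - t * φ t ^ 3) * h3
  · linear_combination (v - u * t) * h3

omit [Fintype K] in
theorem phi_ne_zero (φ : K →+* K) {c : K} (hc : c ≠ 0) : φ c ≠ 0 := by
  rwa [Ne, map_eq_zero]

omit [Fintype K] in
/-- `χ(c)² φ(χ(c))³ = c` for `χ(c) = c² / φ(c)³` -/
theorem chi_inv1 (φ : K →+* K) (h3 : ∀ t, φ (φ t) ^ 3 = t) {c : K} (hc : c ≠ 0) :
    (c ^ 2 / φ c ^ 3) ^ 2 * φ (c ^ 2 / φ c ^ 3) ^ 3 = c := by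
  have h1 := phi_ne_zero φ hc
  rw [map_div₀, map_pow, map_pow, h3 c]
  field_simp

omit [Fintype K] in
/-- `χ(c² φ(c)³) = c` -/
theorem chi_inv2 (φ : K →+* K) (h3 : ∀ t, φ (φ t) ^ 3 = t) {c : K} (hc : c ≠ 0) :
    (c ^ 2 * φ c ^ 3) ^ 2 / φ (c ^ 2 * φ c ^ 3) ^ 3 = c := by
  have h1 := phi_ne_zero φ hc
  rw [map_mul, map_pow, map_pow, h3 c]
  field_simp

theorem exists_cube_ne (hp : OPar G K m φ x e) : ∃ t : K, t ^ 3 ≠ t := by
  by_contra hcon
  rw [not_exists] at hcon
  have hall : ∀ t : K, t ^ 3 = t := fun t => not_not.mp (hcon t)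
  obtain ⟨g, hg⟩ := IsCyclic.exists_generator (α := Kˣ)
  have hord : orderOf g = Nat.card Kˣ := orderOf_eq_card_of_forall_mem_zpowers hg
  have hg2 : g ^ 2 = 1 := by
    have h1 := hall (g : K)
    apply Units.ext
    rw [Units.val_pow_eq_pow_val, Units.val_one]
    have hne : (g : K) ≠ 0 := g.ne_zero
    have h2 : (g : K) * ((g : K) ^ 2 - 1) = 0 := by linear_combination h1
    rcases mul_eq_zero.mp h2 with h | h
    · exact absurd h hne
    · linear_combination h
  have hdvd : orderOf g ∣ 2 := orderOf_dvd_of_pow_eq_one hg2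
  rw [hord, Nat.card_units, Nat.card_eq_fintype_card, hp.cardK] at hdvd
  have hle := Nat.le_of_dvd (by norm_num) hdvd
  have h27 : 3 ^ 3 ≤ 3 ^ (2 * m + 1) :=
    Nat.pow_le_pow_right (by norm_num) (by have := hp.hm; omega)
  generalize 3 ^ (2 * m + 1) = q at hle h27
  omega

end Cfsg.Agent.Lib.Helper67.ReeOutTools
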