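import Mathlib
import Cfsg.Agent.Lib.Helper18.ReeOutStmt
import Cfsg.Agent.Lib.Helper67.ReeOutTools

/-! # S2127 piece TRIVA (helper67) -/

set_option autoImplicit false

namespace Cfsg.Agent.Lib.Helper67.ReeOutTRIVA

open Cfsg.Agent.Lib.Helper18.ReeOutStmt Cfsg.Agent.Lib.Helper67.ReeOutTools

universe u v

theorem main : TRIVA.{u, v} := by
  intro G _ K _ _ m φ x e hp α hα hE hZ u v
  have h3 := hp.char3
  have hneg1 : (-1 : K) ≠ 0 := neg_ne_zero.mpr one_ne_zero
  have hψ : φ (-1) ^ 3 / (-1) = (1 : K) := by rw [map_neg, map_one]; norm_num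
  have key : α (x 0 u 0) = x 0 u 0 := by
    obtain ⟨a, b, hab⟩ := hα 0 u 0
    obtain ⟨p, r, hpr⟩ := hα 1 0 0
    have hrel : x 1 0 0 * x 0 u 0 = x 0 u 0 * x 1 0 0 * x 0 0 u := by
      rw [mulA hp, Amul hp, mulA hp]
      congr 1 <;> ring
    have h4 := congrArg α hrel
    rw [map_mul, map_mul, map_mul, hab, hpr, hZ, mulA hp, Amul hp, mulA hp] at h4
    have h5 := (hp.x_inj _ _ _ _ _ _ h4).2.2
    have ha : a = u := by linear_combination h5
    have hcomm : e (-1) * x 0 u 0 = x 0 u 0 * e (-1) := by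
      rw [hp.e_x (-1) hneg1, hψ, one_mul, mul_zero, mul_zero]
    have h6 := congrArg α hcomm
    rw [map_mul, map_mul, hE (-1) hneg1, hab, hp.e_x (-1) hneg1] at h6
    have h7 := mul_right_cancel h6
    have h8 := (hp.x_inj _ _ _ _ _ _ h7).2.2
    have hb : b = 0 := by linear_combination b * h3 + h8
    rw [hab, ha, hb]
  have hsplit : x 0 u v = x 0 u 0 * x 0 0 v := by
    rw [mulA hp]; congr 1 <;> ring
  rw [hsplit, map_mul, key, hZ]

end Cfsg.Agent.Lib.Helper67.ReeOutTRIVA
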