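import Mathlib
import Cfsg.Agent.Lib.Helper18.ReeOutStmt
import Cfsg.Agent.Lib.Helper67.ReeOutTools

/-! # S2127 piece TRIVH (helper67) -/

set_option autoImplicit false

namespace Cfsg.Agent.Lib.Helper67.ReeOutTRIVH

open Cfsg.Agent.Lib.Helper18.ReeOutStmt Cfsg.Agent.Lib.Helper67.ReeOutTools

universe u v

theorem main : TRIVH.{u, v} := by
  intro G _ K _ _ m φ x e hp α hα hH s hs
  obtain ⟨s', hs', hes⟩ := hH s hs
  obtain ⟨u1, v1, h1⟩ := hα 1 0 0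
  obtain ⟨u2, v2, h2⟩ := hα (s ^ 2 / φ s ^ 3 * 1) (φ s ^ 3 / s * 0) (s * 0)
  have hrel := hp.e_x s hs 1 0 0
  have h3 := congrArg α hrel
  rw [map_mul, map_mul, hes, h1, h2, hp.e_x s' hs'] at h3
  have h4 := mul_right_cancel h3
  have h5 := (hp.x_inj _ _ _ _ _ _ h4).1
  rw [mul_one, mul_one] at h5
  have e1 := chi_inv1 φ hp.phi3 hs'
  have e2 := chi_inv1 φ hp.phi3 hs
  rw [h5, e2] at e1
  rw [hes, ← e1]

end Cfsg.Agent.Lib.Helper67.ReeOutTRIVH
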