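import Mathlib
import Cfsg.Agent.Lib.Helper18.ReeOutStmt
import Cfsg.Agent.Lib.Helper67.ReeOutTools

/-! # S2127 piece TRIVT (helper67) -/

set_option autoImplicit false

namespace Cfsg.Agent.Lib.Helper67.ReeOutTRIVT

open Cfsg.Agent.Lib.Helper18.ReeOutStmt Cfsg.Agent.Lib.Helper67.ReeOutTools

universe u v

theorem main : TRIVT.{u, v} := by
  intro G _ K _ _ m φ x e hp α hα hE hA
  have h3 := hp.char3
  have hneg1 : (-1 : K) ≠ 0 := neg_ne_zero.mpr one_ne_zero
  have hψ : φ (-1) ^ 3 / (-1) = (1 : K) := by rw [map_neg, map_one]; norm_num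
  have hχ : (-1 : K) ^ 2 / φ (-1) ^ 3 = -1 := by rw [map_neg, map_one]; norm_num
  choose P R hPR using fun t => hα t 0 0
  have hmul : ∀ t t' : K, P (t + t') = P t + P t' ∧ R (t + t') = R t + R t' - P t * t' := by
    intro t t'
    have hrel : x t 0 0 * x t' 0 0 = x (t + t') 0 0 *
        x 0 (-(t * φ t' ^ 3)) (-(t ^ 2 * φ t' ^ 3) + t * t' * φ t' ^ 3) := by
      rw [mulA hp, hp.x_mul]
      congr 1 <;> ring
    have h4 := congrArg α hrel
    rw [map_mul, map_mul, hPR, hPR, hPR, hA, mulA hp, hp.x_mul] at h4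
    obtain ⟨-, h5, h6⟩ := hp.x_inj _ _ _ _ _ _ h4
    constructor
    · linear_combination -h5
    · linear_combination -h6
  have hP00 : P 0 = 0 := by
    have h00 := (hmul 0 0).1
    rw [add_zero] at h00
    linear_combination -h00
  have hP0 : ∀ t, P t = 0 := by
    intro t
    have hrel : e (-1) * x t 0 0 = x (-t) 0 0 * e (-1) := by
      rw [hp.e_x (-1) hneg1, hχ, mul_zero, mul_zero, neg_one_mul]
    have h4 := congrArg α hrel
    rw [map_mul, map_mul, hE (-1) hneg1, hPR, hPR, hp.e_x (-1) hneg1] at h4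
    have h5 := (hp.x_inj _ _ _ _ _ _ (mul_right_cancel h4)).2.1
    rw [hψ, one_mul] at h5
    have h6 := (hmul t (-t)).1
    rw [add_neg_cancel, hP00] at h6
    linear_combination (P t) * h3 + h6 - h5
  have hR : ∀ t t' : K, R (t + t') = R t + R t' := by
    intro t t'
    have h4 := (hmul t t').2
    rw [hP0 t, zero_mul, sub_zero] at h4
    exact h4
  have hR0 : R 0 = 0 := by
    have h00 := hR 0 0
    rw [add_zero] at h00
    linear_combination -h00
  have hRs : ∀ s t : K, s ≠ 0 → R (s ^ 2 / φ s ^ 3 * t) = s * R t := by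
    intro s t hs
    have hrel := hp.e_x s hs t 0 0
    have h4 := congrArg α hrel
    rw [map_mul, map_mul, hE s hs, mul_zero, mul_zero, hPR, hPR, hp.e_x s hs] at h4
    have h5 := (hp.x_inj _ _ _ _ _ _ (mul_right_cancel h4)).2.2
    exact h5.symm
  have hRform : ∀ t : K, R t = t ^ 2 * φ t ^ 3 * R 1 := by
    intro t
    by_cases ht : t = 0
    · rw [ht, hR0]; simp
    · have hs : t ^ 2 * φ t ^ 3 ≠ 0 :=
        mul_ne_zero (pow_ne_zero 2 ht) (pow_ne_zero 3 (phi_ne_zero φ ht))
      have h4 := hRs (t ^ 2 * φ t ^ 3) 1 hs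
      rw [chi_inv2 φ hp.phi3 ht, mul_one] at h4
      exact h4
  have hd : R 1 = 0 := by
    obtain ⟨t, ht⟩ := exists_cube_ne hp
    have h4 := hR t 1
    rw [hRform (t + 1), hRform t, map_add, map_one] at h4
    have h5 : (t - 1) * (t - φ t ^ 3) * R 1 = 0 := by
      linear_combination h4 - (t * φ t ^ 3 + t + (t + 1) ^ 2 * (φ t ^ 2 + φ t)) * R 1 * h3
    have h6 : t - 1 ≠ 0 := by
      intro h
      apply ht
      have e1 : t = 1 := by linear_combination h
      rw [e1]; ring
    have h7 : t - φ t ^ 3 ≠ 0 := by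
      intro h
      apply ht
      have e1 : t = φ t ^ 3 := by linear_combination h
      have e2 : φ t = t := by
        calc φ t = φ (φ t ^ 3) := by rw [← e1]
          _ = φ (φ t) ^ 3 := by rw [map_pow]
          _ = t := hp.phi3 t
      rw [e2] at e1
      exact e1.symm
    rcases mul_eq_zero.mp h5 with h | h
    · rcases mul_eq_zero.mp h with h | h
      · exact absurd h h6
      · exact absurd h h7
    · exact h
  intro t
  rw [hPR t, hP0 t, hRform t, hd, mul_zero]

end Cfsg.Agent.Lib.Helper67.ReeOutTRIVT
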