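import Mathlib
import Cfsg.Agent.Lib.Helper18.ReeOutStmt
import Cfsg.Agent.Lib.Helper67.ReeOutTools

/-! # S2127 piece TRIVZ (helper67) -/

set_option autoImplicit false

namespace Cfsg.Agent.Lib.Helper67.ReeOutTRIVZ

open Cfsg.Agent.Lib.Helper18.ReeOutStmt Cfsg.Agent.Lib.Helper67.ReeOutTools

universe u v

theorem main : TRIVZ.{u, v} := by
  intro G _ K _ _ m φ x e hp α hα v
  obtain ⟨t, ht⟩ : ∃ t : K, -(t ^ 2 * φ t ^ 3) = v := by
    by_cases hv : v = 0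
    · exact ⟨0, by simp [hv]⟩
    · refine ⟨(-v) ^ 2 / φ (-v) ^ 3, ?_⟩
      rw [chi_inv1 φ hp.phi3 (neg_ne_zero.mpr hv), neg_neg]
  obtain ⟨u', v', h1⟩ := hα t 0 0
  have h2 : x 0 0 v = x t 0 0 * x t 0 0 * x t 0 0 := by rw [cube hp, ht]
  rw [h2, map_mul, map_mul, h1, cube hp, cube hp]

end Cfsg.Agent.Lib.Helper67.ReeOutTRIVZ
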