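import Mathlib
import Cfsg.Agent.Lib.Helper42.ReeSpStmt
import Cfsg.Agent.Lib.Helper59.PSL2Spec

/-!
# S1159 / EXIST: elements of orders 6, 9, `q - 1`, `(q + 1) / 2` in a group with the Ree axioms
-/

set_option autoImplicit false
universe u v

namespace Cfsg.Agent.Lib.Helper67.ReeSpEXIST

open Cfsg.Agent.Lib.Helper42.ReeSpStmt

theorem qq_mod8 (m : ℕ) : qq m % 8 = 3 := by
  unfold qq
  rw [pow_succ, pow_mul, Nat.mul_mod, Nat.pow_mod]
  norm_num

theorem charP_three (K : Type v) [Field K] [Fintype K] (m : ℕ)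
    (h : Fintype.card K = qq m) : CharP K 3 := by
  obtain ⟨n, hp, hcard⟩ := FiniteField.card K (ringChar K)
  have h1 : ringChar K ∣ 3 ^ (2 * m + 1) := by
    have : ringChar K ∣ ringChar K ^ (n : ℕ) := dvd_pow_self _ n.pos.ne'
    rw [← hcard, h] at this
    exact this
  have h2 : ringChar K = 3 :=
    (Nat.prime_dvd_prime_iff_eq hp Nat.prime_three).mp (hp.dvd_of_dvd_pow h1)
  have := ringChar.charP K
  rwa [h2] at this

theorem main : Exist.{u, v} := by
  intro G _ _ U H A K _ _ m ax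
  classical
  have hq8 := qq_mod8 m
  have hq1 : 1 ≤ qq m := Nat.one_le_pow _ _ (by norm_num)
  have : CharP K 3 := charP_three K m ax.cardK
  have : Fact (Nat.Prime 3) := ⟨Nat.prime_three⟩
  have : Fact (Nat.Prime 2) := ⟨Nat.prime_two⟩
  -- an involution
  have h2 : 2 ∣ Nat.card G := by
    rw [ax.card]
    apply Dvd.dvd.mul_right
    apply Dvd.dvd.mul_left
    omega
  obtain ⟨s, hs⟩ := exists_prime_orderOf_dvd_card' 2 h2
  obtain ⟨φ⟩ := ax.invo s hs
  obtain ⟨t3, ht3⟩ : ∃ t : Matrix.ProjectiveSpecialLinearGroup (Fin 2) K, orderOf t = 3 := by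
    have h3 : (3 : ℕ) ∈ Set.range
        (orderOf : Matrix.ProjectiveSpecialLinearGroup (Fin 2) K → ℕ) := by
      rw [Cfsg.Agent.Lib.Helper59.PSL2Spec.range_orderOf 3]
      left
      exact dvd_rfl
    exact h3
  obtain ⟨t', ht'⟩ : ∃ t : Matrix.ProjectiveSpecialLinearGroup (Fin 2) K,
      orderOf t = (qq m + 1) / 2 := by
    have h3 : ((qq m + 1) / 2) ∈ Set.range
        (orderOf : Matrix.ProjectiveSpecialLinearGroup (Fin 2) K → ℕ) := by
      rw [Cfsg.Agent.Lib.Helper59.PSL2Spec.range_orderOf 3, ax.cardK]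
      right
      right
      have hg : Nat.gcd 2 (qq m + 1) = 2 := Nat.gcd_eq_left (by omega)
      rw [hg]
    exact h3
  refine ⟨?_, ?_, ?_, ?_⟩
  · have hz : orderOf ((Multiplicative.ofAdd (1 : ZMod 2), t3) :
        Multiplicative (ZMod 2) × Matrix.ProjectiveSpecialLinearGroup (Fin 2) K) = 6 := by
      rw [Prod.orderOf_mk, ht3, orderOf_ofAdd_eq_addOrderOf, ZMod.addOrderOf_one]
      rfl
    exact ⟨(φ.symm (Multiplicative.ofAdd (1 : ZMod 2), t3) : G), by
      rw [Subgroup.orderOf_coe, MulEquiv.orderOf_eq, hz]⟩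
  · obtain ⟨u, _, hu⟩ := ax.ex9
    exact ⟨u, hu⟩
  · have := ax.cycH
    obtain ⟨g, hg⟩ := IsCyclic.exists_generator (α := H)
    refine ⟨(g : G), ?_⟩
    rw [Subgroup.orderOf_coe, orderOf_eq_card_of_forall_mem_zpowers hg, ax.cardH]
  · exact ⟨(φ.symm (1, t') : G), by
      rw [Subgroup.orderOf_coe, MulEquiv.orderOf_eq, Prod.orderOf_mk, orderOf_one,
        Nat.lcm_one_left, ht']⟩

end Cfsg.Agent.Lib.Helper67.ReeSpEXIST
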